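import Cfsg.Agent.Lib.Char.Clifford
import Cfsg.Agent.Lib.Char.Burnside
import Cfsg.Agent.Lib.Degree.Sums

/-!
# Itô's theorem for split extensions.

If `V` is an abelian normal subgroup of `X` with a complement `G`, then the degree of every
irreducible character of `X` divides `|G|`. The proof is through eigenspaces of linear characters
of `V`.
-/

set_option autoImplicit false
set_option linter.unusedSectionVars false

open scoped ComplexConjugate
open Module

namespace Cfsg.Agent.Lib.Degree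

open Cfsg (classInner IsCharacter IsIrrCharacter IrrCharacter IsClassFunction charDegree)
open Cfsg.Agent.Lib.Char

universe u v

section Eigen

variable {X : Type u} [Group X] {W : Type v} [AddCommGroup W] [Module ℂ W]
variable (ρ : Representation ℂ X W) (A : Subgroup X) (lam : A →* ℂˣ)

/-- The eigenspace of a linear character of a subgroup. -/
def linEigen : Submodule ℂ W where
  carrier := {u | ∀ a : A, ρ a u = (lam a : ℂ) • u}
  add_mem' := by
    intro u w hu hw a
    rw [map_add, hu a, hw a, smul_add]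
  zero_mem' := by
    intro a
    simp
  smul_mem' := by
    intro c u hu a
    rw [map_smul, hu a, smul_comm]

theorem mem_linEigen {u : W} : u ∈ linEigen ρ A lam ↔ ∀ a : A, ρ a u = (lam a : ℂ) • u := Iff.rfl

variable [Fintype A]

/-- The averaging projector of a linear character of a subgroup. -/
noncomputable def linProj : Module.End ℂ W :=
  (Fintype.card A : ℂ)⁻¹ • ∑ a : A, ((lam a⁻¹ : ℂˣ) : ℂ) • ρ a

theorem linProj_apply (u : W) :
    linProj ρ A lam u = (Fintype.card A : ℂ)⁻¹ • ∑ a : A, ((lam a⁻¹ : ℂˣ) : ℂ) • ρ a u := by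
  simp [linProj]

theorem linProj_mem (u : W) : linProj ρ A lam u ∈ linEigen ρ A lam := by
  intro b
  rw [linProj_apply, map_smul, map_sum, smul_comm]
  congr 1
  simp only [map_smul]
  have key : ∀ a : A, ((lam (b⁻¹ * a)⁻¹ : ℂˣ) : ℂ) • ρ b (ρ ((b⁻¹ * a : A) : X) u) =
      ((lam b : ℂˣ) : ℂ) • (((lam a⁻¹ : ℂˣ) : ℂ) • ρ a u) := by
    intro a
    have h1 : ρ b (ρ ((b⁻¹ * a : A) : X) u) = ρ a u := by
      rw [← Module.End.mul_apply, ← map_mul]
      simp
    have h2 : ((lam (b⁻¹ * a)⁻¹ : ℂˣ) : ℂ) = ((lam b : ℂˣ) : ℂ) * ((lam a⁻¹ : ℂˣ) : ℂ) := by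
      have : (b⁻¹ * a)⁻¹ = a⁻¹ * b := by group
      rw [this, map_mul, Units.val_mul, mul_comm]
    rw [h1, h2, smul_smul]
  calc ∑ a : A, ((lam a⁻¹ : ℂˣ) : ℂ) • ρ b (ρ a u)
      = ∑ a : A, ((lam (b⁻¹ * a)⁻¹ : ℂˣ) : ℂ) • ρ b (ρ ((b⁻¹ * a : A) : X) u) :=
        (Equiv.sum_comp (Equiv.mulLeft b⁻¹) (fun a : A => ((lam a⁻¹ : ℂˣ) : ℂ) • ρ b (ρ a u))).symm
    _ = ∑ a : A, ((lam b : ℂˣ) : ℂ) • (((lam a⁻¹ : ℂˣ) : ℂ) • ρ a u) :=
        Finset.sum_congr rfl fun a _ => key a
    _ = _ := by rw [Finset.smul_sum]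

theorem linProj_of_mem {u : W} (hu : u ∈ linEigen ρ A lam) : linProj ρ A lam u = u := by
  have hcard : (Fintype.card A : ℂ) ≠ 0 := by exact_mod_cast Fintype.card_ne_zero
  rw [linProj_apply]
  have h1 : ∀ a : A, ((lam a⁻¹ : ℂˣ) : ℂ) • ρ a u = u := by
    intro a
    rw [hu a, smul_smul, ← Units.val_mul, ← map_mul, inv_mul_cancel, map_one, Units.val_one, one_smul]
  simp only [h1, Finset.sum_const, Finset.card_univ]
  rw [← Nat.cast_smul_eq_nsmul ℂ, smul_smul, inv_mul_cancel₀ hcard, one_smul]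

theorem linProj_isProj : LinearMap.IsProj (linEigen ρ A lam) (linProj ρ A lam) :=
  ⟨linProj_mem ρ A lam, fun _ hu => linProj_of_mem ρ A lam hu⟩

/-- The finrank of the eigenspace is the multiplicity. -/
theorem finrank_linEigen [FiniteDimensional ℂ W] :
    ((finrank ℂ (linEigen ρ A lam) : ℕ) : ℂ) =
      (Fintype.card A : ℂ)⁻¹ * ∑ a : A, ((lam a⁻¹ : ℂˣ) : ℂ) * ρ.character a := by
  have h := (linProj_isProj ρ A lam).trace
  rw [linProj, map_smul, map_sum] at h
  simp only [map_smul, smul_eq_mul] at h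
  rw [← h]
  rfl

end Eigen

section Twisted

variable {X : Type u} [Group X] {W : Type v} [AddCommGroup W] [Module ℂ W]
variable (ρ : Representation ℂ X W) (A : Subgroup X) [hA : A.Normal] [Fintype A] (lam : A →* ℂˣ)

/-- `ρ x` moves the eigenspace of `lam` to that of the conjugate. -/
theorem rep_conj_apply {u : W} (hu : u ∈ linEigen ρ A lam) (x : X) (a : A) :
    ρ a (ρ x u) = ((lam ⟨x⁻¹ * a * x, by simpa using hA.conj_mem a a.2 x⁻¹⟩ : ℂˣ) : ℂ) • ρ x u := by
  have h1 : ρ a (ρ x u) = ρ x (ρ (x⁻¹ * a * x) u) := by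
    rw [← Module.End.mul_apply, ← Module.End.mul_apply, ← map_mul, ← map_mul]
    congr 2
    group
  rw [h1]
  have h2 := hu ⟨x⁻¹ * a * x, by simpa using hA.conj_mem a a.2 x⁻¹⟩
  have h3 : ρ (x⁻¹ * a * x) u = ((lam ⟨x⁻¹ * a * x, by simpa using hA.conj_mem a a.2 x⁻¹⟩ : ℂˣ) : ℂ) • u := h2
  rw [h3, map_smul]

/-- The projector annihilates `ρ x u` unless `x⁻¹` stabilizes `lam`. -/
theorem linProj_conj_eq_zero {u : W} (hu : u ∈ linEigen ρ A lam) (x : X)
    (hx : ∃ a : A, lam ⟨x⁻¹ * a * x, by simpa using hA.conj_mem a a.2 x⁻¹⟩ ≠ lam a) :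
    linProj ρ A lam (ρ x u) = 0 := by
  rw [linProj_apply]
  have h1 : ∀ a : A, ((lam a⁻¹ : ℂˣ) : ℂ) • ρ a (ρ x u) =
      (((lam a⁻¹ : ℂˣ) : ℂ) * ((lam ⟨x⁻¹ * a * x, by simpa using hA.conj_mem a a.2 x⁻¹⟩ : ℂˣ) : ℂ)) • ρ x u := by
    intro a
    rw [rep_conj_apply ρ A lam hu x a, smul_smul]
  simp only [h1]
  rw [← Finset.sum_smul]
  -- the coefficient is the sum of a nontrivial homomorphism
  let μ : A →* ℂ :=
    { toFun := fun a => ((lam a⁻¹ : ℂˣ) : ℂ) * ((lam ⟨x⁻¹ * a * x, by simpa using hA.conj_mem a a.2 x⁻¹⟩ : ℂˣ) : ℂ)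
      map_one' := by
        have : (⟨x⁻¹ * ((1 : A) : X) * x, by simpa using hA.conj_mem 1 (A.one_mem) x⁻¹⟩ : A) = 1 := by
          apply Subtype.ext
          simp
        simp only [inv_one, map_one, Units.val_one, one_mul, this]
      map_mul' := by
        intro a b
        have : (⟨x⁻¹ * ((a * b : A) : X) * x, by simpa using hA.conj_mem (a * b : A) (a * b : A).2 x⁻¹⟩ : A) =
            ⟨x⁻¹ * a * x, by simpa using hA.conj_mem a a.2 x⁻¹⟩ * ⟨x⁻¹ * b * x, by simpa using hA.conj_mem b b.2 x⁻¹⟩ := by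
          apply Subtype.ext
          simp only [Subgroup.coe_mul]
          group
        simp only [this, map_mul, map_inv, Units.val_mul, mul_inv_rev, Units.val_inv_eq_inv_val]
        ring }
  have hμ : μ ≠ 1 := by
    intro h
    obtain ⟨a, ha⟩ := hx
    apply ha
    have h1 := congrArg (fun f : A →* ℂ => f a) h
    simp only [μ, MonoidHom.coe_mk, OneHom.coe_mk, MonoidHom.one_apply] at h1
    rw [map_inv, Units.val_inv_eq_inv_val] at h1
    apply Units.ext
    field_simp at h1
    exact h1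
  have h2 := sum_hom_units_eq_zero μ hμ
  have h3 : ∑ a : A, ((lam a⁻¹ : ℂˣ) : ℂ) * ((lam ⟨x⁻¹ * a * x, by simpa using hA.conj_mem a a.2 x⁻¹⟩ : ℂˣ) : ℂ) = 0 := h2
  rw [h3, zero_smul, smul_zero]

/-- The projector fixes `ρ x u` if `x⁻¹` stabilizes `lam`. -/
theorem linProj_conj_eq_self {u : W} (hu : u ∈ linEigen ρ A lam) (x : X)
    (hx : ∀ a : A, lam ⟨x⁻¹ * a * x, by simpa using hA.conj_mem a a.2 x⁻¹⟩ = lam a) :
    ρ x u ∈ linEigen ρ A lam := by
  intro a
  rw [rep_conj_apply ρ A lam hu x a, hx a]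

end Twisted

section Split

variable {X : Type u} [Group X] [Finite X]

/-- Itô's theorem for split extensions by an abelian normal subgroup. -/
theorem irr_degree_dvd_card_complement (V G : Subgroup X) [hV : V.Normal]
    (hab : ∀ a ∈ V, ∀ b ∈ V, a * b = b * a) (hGV : Subgroup.IsComplement' V G)
    {χ : X → ℂ} (hχ : IsIrrCharacter X χ) :
    ∃ d : ℕ, χ 1 = d ∧ d ∣ Nat.card G := by
  classical
  have : Fintype X := Fintype.ofFinite X
  have : Fintype V := Fintype.ofFinite V
  have hχc := IsIrrCharacter.isCharacter hχ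
  -- a linear constituent
  have hres := IsCharacter.restrict V hχc
  have hres0 : (fun n : V => χ n) ≠ 0 := by
    intro h0
    have := congrFun h0 1
    exact map_one_ne_zero_of_irr hχ (by simpa using this)
  obtain ⟨θ, hθ, hθ0⟩ := exists_constituent hres hres0
  have hθ1 : θ 1 = 1 := charDegree_eq_one_of_comm
    (fun a b => Subtype.ext (hab a a.2 b b.2)) hθ
  obtain ⟨lam, hlam⟩ := exists_hom_of_character_one (IsIrrCharacter.isCharacter hθ) hθ1
  have hθval : ∀ a : V, θ a = (lam a : ℂ) := fun a => by rw [hlam]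
  obtain ⟨n, ρ, hρ, rfl⟩ := hχ
  -- multiplicity
  set E := linEigen ρ V lam with hE
  have hfr := finrank_linEigen ρ V lam
  have hinner : classInner (fun n : V => ρ.character n) θ = ((finrank ℂ E : ℕ) : ℂ) := by
    rw [hfr, classInner_def, Nat.card_eq_fintype_card]
    congr 1
    refine Finset.sum_congr rfl fun a _ => ?_
    rw [mul_comm]
    congr 1
    rw [hθval, ← root_inv_eq_conj (n := orderOf a) (orderOf_pos _).ne' ?_]
    · rw [map_inv, Units.val_inv_eq_inv_val]
    · rw [← Units.val_pow_eq_pow_val, ← map_pow, pow_orderOf_eq_one, map_one, Units.val_one]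
  have he0 : finrank ℂ E ≠ 0 := by
    intro h0
    apply hθ0
    rw [hinner, h0]
    simp
  have hdeg := clifford_degree hV (IsIrrCharacter.isCharacter hθ |> fun _ => ⟨n, ρ, hρ, rfl⟩) hθ hinner he0
  have hθdeg : charDegree θ = 1 := by
    rw [charDegree_natCast (n := 1) (by simpa using hθ1)]
  rw [hθdeg, mul_one] at hdeg
  -- the inertia group and its complement part
  set T := inertia hV θ with hT
  have hVT : V ≤ T := le_inertia hV (IsCharacter.isClassFunction (IsIrrCharacter.isCharacter hθ))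
  have hTmem : ∀ x : X, x ∈ T ↔
      ∀ a : V, lam ⟨x⁻¹ * a * x, by simpa using hV.conj_mem a a.2 x⁻¹⟩ = lam a := by
    intro x
    have h1 : x ∈ T ↔ x⁻¹ ∈ T := (T.inv_mem_iff).symm
    rw [h1, hT, mem_inertia_iff]
    constructor
    · intro h a
      have h2 := h a
      rw [hθval, hθval] at h2
      apply Units.ext
      convert h2 using 3
      simp
    · intro h a
      rw [hθval, hθval]
      have h2 := h a
      have h3 := congrArg Units.val h2
      convert h3 using 3
      simp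
  let H : Subgroup X := G ⊓ T
  have hstab : ∀ x ∈ T, ∀ u ∈ E, ρ x u ∈ E := by
    intro x hx u hu
    exact linProj_conj_eq_self ρ V lam hu x ((hTmem x).mp hx)
  have hdisj : ∀ x, x ∈ V → x ∈ G → x = 1 := by
    intro x hx hx'
    exact Subgroup.disjoint_def.mp hGV.disjoint hx hx'
  have hfact : ∀ x : X, ∃ v ∈ V, ∃ g ∈ G, x = v * g := by
    intro x
    obtain ⟨⟨⟨v, hv⟩, ⟨g, hg⟩⟩, hx, -⟩ := Subgroup.IsComplement.existsUnique hGV x
    exact ⟨v, hv, g, hg, hx.symm⟩
  -- the representation of `H` on `E`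
  let σ : Representation ℂ H E := Representation.subrepresentation (ρ.comp H.subtype) E
    (fun h u hu => hstab h h.2.2 u hu)
  have hσval : ∀ (h : H) (u : E), ((σ h u : E) : Fin n → ℂ) = ρ h u := fun _ _ => rfl
  have hσ : σ.IsIrreducible := by
    rw [isIrreducible_iff]
    have hEnt : Nontrivial E := Module.nontrivial_of_finrank_pos (R := ℂ) (Nat.pos_of_ne_zero he0)
    refine ⟨hEnt, fun U hU => ?_⟩
    by_cases hU0 : U = ⊥
    · exact Or.inl hU0
    right
    obtain ⟨u₀, hu₀, hu₀0⟩ := (Submodule.ne_bot_iff U).mp hU0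
    let U' : Submodule ℂ (Fin n → ℂ) := U.map E.subtype
    have hU'E : ∀ w ∈ U', w ∈ E := by
      intro w hw
      obtain ⟨y, -, rfl⟩ := Submodule.mem_map.mp hw
      exact y.2
    have hU'stab : ∀ h : H, ∀ w ∈ U', ρ h w ∈ U' := by
      intro h w hw
      obtain ⟨y, hy, rfl⟩ := Submodule.mem_map.mp hw
      exact Submodule.mem_map.mpr ⟨σ h y, hU h y hy, rfl⟩
    -- the `X`-span of `U'`
    let M : Submodule ℂ (Fin n → ℂ) := Submodule.span ℂ {w | ∃ x : X, ∃ u ∈ U', w = ρ x u}
    have hMstab : ∀ g : X, ∀ v ∈ M, ρ g v ∈ M := by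
      intro g v hv
      induction hv using Submodule.span_induction with
      | mem w hw =>
        obtain ⟨x, u, hu, rfl⟩ := hw
        refine Submodule.subset_span ⟨g * x, u, hu, ?_⟩
        rw [map_mul, Module.End.mul_apply]
      | zero => simp
      | add a b _ _ ha hb =>
        rw [map_add]
        exact M.add_mem ha hb
      | smul c a _ ha =>
        rw [map_smul]
        exact M.smul_mem c ha
    have hMtop : M = ⊤ := by
      have h1 := ((isIrreducible_iff ρ).mp hρ).2 M hMstab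
      refine h1.resolve_left ?_
      intro h0
      have hmem : ((u₀ : E) : Fin n → ℂ) ∈ M :=
        Submodule.subset_span ⟨1, u₀, Submodule.mem_map.mpr ⟨u₀, hu₀, rfl⟩, by simp⟩
      rw [h0, Submodule.mem_bot] at hmem
      exact hu₀0 (Subtype.ext hmem)
    -- the projector maps `M` to `U'`
    have hproj : ∀ w ∈ M, linProj ρ V lam w ∈ U' := by
      intro w hw
      induction hw using Submodule.span_induction with
      | mem w hw =>
        obtain ⟨x, u, hu, rfl⟩ := hw
        by_cases hx : x ∈ T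
        · -- `x = a h`, with `a ∈ V`, `h ∈ H`
          obtain ⟨a, ha, g, hg, rfl⟩ := hfact x
          have hgT : g ∈ T := by
            have := T.mul_mem (T.inv_mem (hVT ha)) hx
            simpa using this
          have h1 : ρ (a * g) u ∈ E := hstab _ hx u (hU'E u hu)
          rw [linProj_of_mem ρ V lam h1, map_mul, Module.End.mul_apply]
          have h2 : ρ g u ∈ U' := hU'stab ⟨g, hg, hgT⟩ u hu
          have h3 : ρ g u ∈ E := hU'E _ h2
          have h4 := h3 ⟨a, ha⟩
          have h5 : ρ a (ρ g u) = ((lam ⟨a, ha⟩ : ℂˣ) : ℂ) • ρ g u := h4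
          rw [h5]
          exact U'.smul_mem _ h2
        · have hne : ∃ a : V, lam ⟨x⁻¹ * a * x, by simpa using hV.conj_mem a a.2 x⁻¹⟩ ≠ lam a := by
            by_contra hcon
            push Not at hcon
            exact hx ((hTmem x).mpr hcon)
          rw [linProj_conj_eq_zero ρ V lam (hU'E u hu) x hne]
          exact U'.zero_mem
      | zero =>
        rw [map_zero]
        exact U'.zero_mem
      | add a b _ _ ha hb =>
        rw [map_add]
        exact U'.add_mem ha hb
      | smul c a _ ha =>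
        rw [map_smul]
        exact U'.smul_mem c ha
    rw [eq_top_iff]
    intro y _
    have hy : ((y : E) : Fin n → ℂ) ∈ M := by
      rw [hMtop]
      exact Submodule.mem_top
    have h1 := hproj _ hy
    rw [linProj_of_mem ρ V lam y.2] at h1
    obtain ⟨z, hz, hzy⟩ := Submodule.mem_map.mp h1
    have : z = y := Subtype.ext hzy
    rwa [← this]
  have hedvd : finrank ℂ E ∣ Nat.card H := finrank_dvd_card σ hσ
  -- counting
  have hTcard : Nat.card T = Nat.card V * Nat.card H := by
    rw [← Nat.card_prod]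
    refine (Nat.card_congr (Equiv.ofBijective
      (fun p : V × H => (⟨(p.1 : X) * (p.2 : X), T.mul_mem (hVT p.1.2) p.2.2.2⟩ : T)) ⟨?_, ?_⟩)).symm
    · rintro ⟨a, h⟩ ⟨a', h'⟩ heq
      have h1 : (a : X) * (h : X) = (a' : X) * (h' : X) := congrArg Subtype.val heq
      have h2 : (a' : X)⁻¹ * (a : X) = (h' : X) * (h : X)⁻¹ := by
        rw [inv_mul_eq_iff_eq_mul, ← mul_assoc, ← h1]
        group
      have h3 : (a' : X)⁻¹ * (a : X) = 1 := hdisj _ (V.mul_mem (V.inv_mem a'.2) a.2)
        (by rw [h2]; exact G.mul_mem h'.2.1 (G.inv_mem h.2.1))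
      have h4 : (a : X) = a' := by
        rw [inv_mul_eq_iff_eq_mul, mul_one] at h3
        exact h3
      have h5 : (h : X) = h' := by
        rw [h4] at h1
        exact mul_left_cancel h1
      exact Prod.ext (Subtype.ext h4) (Subtype.ext h5)
    · rintro ⟨t, ht⟩
      obtain ⟨a, ha, g, hg, rfl⟩ := hfact t
      have hgT : g ∈ T := by
        have := T.mul_mem (T.inv_mem (hVT ha)) ht
        simpa using this
      exact ⟨(⟨a, ha⟩, ⟨g, hg, hgT⟩), rfl⟩
  have hcard : T.index * Nat.card H = Nat.card G := by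
    have h1 := T.card_mul_index
    have h2 : Nat.card X = Nat.card V * Nat.card G := hGV.card_mul_card.symm
    rw [hTcard, h2, mul_assoc] at h1
    exact (mul_comm _ _).trans (Nat.eq_of_mul_eq_mul_left Nat.card_pos h1)
  have hchar : ρ.character 1 = ((charDegree ρ.character : ℕ) : ℂ) :=
    map_one_eq_charDegree (isCharacter_character ρ |> fun _ => ⟨n, ρ, rfl⟩)
  refine ⟨charDegree ρ.character, hchar, ?_⟩
  rw [hdeg, ← hcard, mul_comm]
  exact Nat.mul_dvd_mul_left _ hedvd

end Split

end Cfsg.Agent.Lib.Degree
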