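import Mathlib
import Cfsg.Agent.Lib.Char.Brauer
import Cfsg.Agent.Lib.Char.Induced
import Cfsg.Agent.Lib.Char.Ops
import Cfsg.Agent.Lib.Char.Burnside
import Cfsg.Agent.Lib.Char.Decomp

/-!
# Galois conjugates of characters: `g ↦ χ (g ^ k)` for `k` prime to the order of `G`.
-/

set_option autoImplicit false
set_option linter.unusedSectionVars false
set_option linter.style.haveILetI false

open scoped ComplexConjugate

namespace Cfsg.Agent.Lib.Degree

open Cfsg Cfsg.Agent.Lib.Char

universe u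

variable {G : Type u} [Group G] [Fintype G]

theorem mem_of_pow_mem_of_coprime (E : Subgroup G) {k : ℕ} (hk : k.Coprime (Nat.card G)) {y : G}
    (h : y ^ k ∈ E) : y ∈ E := by
  have h1 : y ∈ Subgroup.zpowers (y ^ k) := by
    have hord : (orderOf y).Coprime k := Nat.Coprime.coprime_dvd_left (orderOf_dvd_natCard y) hk.symm
    rw [Subgroup.mem_zpowers_iff]
    obtain ⟨a, b, hab⟩ : ∃ a b : ℤ, (k : ℤ) * a + (orderOf y : ℤ) * b = 1 := by
      refine ⟨Nat.gcdA k (orderOf y), Nat.gcdB k (orderOf y), ?_⟩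
      have := Nat.gcd_eq_gcd_ab k (orderOf y)
      rw [show Nat.gcd k (orderOf y) = 1 from hord.symm] at this
      simpa using this.symm
    refine ⟨a, ?_⟩
    have h2 : y ^ ((k : ℤ) * a + (orderOf y : ℤ) * b) = y ^ (1 : ℤ) := by rw [hab]
    rw [zpow_add, zpow_mul, zpow_mul, zpow_natCast, zpow_natCast, pow_orderOf_eq_one, one_zpow,
      mul_one, zpow_one] at h2
    exact h2
  exact (Subgroup.zpowers_le.mpr h) h1

theorem extendByZero_eq_of_mem (E : Subgroup G) (θ : E → ℂ) {y : G} (h : y ∈ E) :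
    extendByZero E θ y = θ ⟨y, h⟩ := by
  unfold extendByZero
  exact (Subtype.val_injective.extend_apply θ 0 ⟨y, h⟩)

theorem extendByZero_eq_of_notMem (E : Subgroup G) (θ : E → ℂ) {y : G} (h : y ∉ E) :
    extendByZero E θ y = 0 := by
  unfold extendByZero
  rw [Function.extend_apply']
  · rfl
  · rintro ⟨a, rfl⟩
    exact h a.2

theorem indFun_linear_pow (E : Subgroup G) (φ : E →* ℂˣ) {k : ℕ} (hk : k.Coprime (Nat.card G))
    (g : G) :
    indFun E (fun e => ((φ e : ℂˣ) : ℂ)) (g ^ k) = indFun E (fun e => (((φ ^ k) e : ℂˣ) : ℂ)) g := by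
  classical
  unfold indFun
  congr 1
  refine Finset.sum_congr rfl fun x _ => ?_
  have hc : x⁻¹ * g ^ k * x = (x⁻¹ * g * x) ^ k := by
    have := conj_pow (a := x⁻¹) (b := g) (i := k)
    simpa using this.symm
  rw [hc]
  by_cases hm : x⁻¹ * g * x ∈ E
  · rw [extendByZero_eq_of_mem E _ (E.pow_mem hm k), extendByZero_eq_of_mem E _ hm]
    have : (⟨(x⁻¹ * g * x) ^ k, E.pow_mem hm k⟩ : E) = (⟨x⁻¹ * g * x, hm⟩ : E) ^ k := rfl
    rw [this, map_pow]
    rfl
  · rw [extendByZero_eq_of_notMem E _ hm, extendByZero_eq_of_notMem E _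
      (fun h => hm (mem_of_pow_mem_of_coprime E hk h))]

theorem isCharacter_of_units_hom {E : Type u} [Group E] [Fintype E] (φ : E →* ℂˣ) :
    IsCharacter E (fun e => ((φ e : ℂˣ) : ℂ)) := by
  exact IsIrrCharacter.isCharacter (isIrrCharacter_of_hom (G := E) φ)

/-- `g ↦ χ (g ^ k)` is a generalized character when `k` is prime to `|G|`. -/
theorem galois_isGeneralized {χ : G → ℂ} (hχ : IsCharacter G χ) {k : ℕ}
    (hk : k.Coprime (Nat.card G)) : IsGeneralizedCharacter G (fun g => χ (g ^ k)) := by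
  classical
  obtain ⟨l, -, hl⟩ := brauer_induction hχ
  rw [hl]
  clear hl hχ
  induction l with
  | nil =>
    exact IsGeneralizedCharacter.zero
  | cons t l ih =>
    have h1 : (fun g : G => ((t :: l).map fun t =>
        ((t.2.2 : ℤ) : ℂ) • indFun t.1 (fun e => ((t.2.1 e : ℂˣ) : ℂ))).sum (g ^ k)) =
        (fun g : G => ((t.2.2 : ℤ) : ℂ) • indFun t.1 (fun e => (((t.2.1 ^ k) e : ℂˣ) : ℂ)) g) +
        (fun g : G => (l.map fun t =>
        ((t.2.2 : ℤ) : ℂ) • indFun t.1 (fun e => ((t.2.1 e : ℂˣ) : ℂ))).sum (g ^ k)) := by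
      funext g
      simp only [List.map_cons, List.sum_cons, Pi.add_apply, Pi.smul_apply]
      rw [indFun_linear_pow _ _ hk]
    rw [h1]
    refine IsGeneralizedCharacter.add ?_ ih
    have := IsGeneralizedCharacter.intCast_smul (IsGeneralizedCharacter.of_isCharacter
      (indFun_isCharacter t.1 (isCharacter_of_units_hom (t.2.1 ^ k)))) t.2.2
    exact this

theorem classInner_galois (χ ψ : G → ℂ) {k : ℕ} (hk : k.Coprime (Nat.card G)) :
    classInner (fun g => χ (g ^ k)) (fun g => ψ (g ^ k)) = classInner χ ψ := by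
  unfold classInner
  congr 1
  exact (powCoprime (G := G) hk.symm).sum_comp (fun g => χ g * conj (ψ g))

/-- The Galois conjugate `g ↦ χ (g ^ k)` of an irreducible character is irreducible. -/
theorem galois_isIrr {χ : G → ℂ} (hχ : IsIrrCharacter G χ) {k : ℕ}
    (hk : k.Coprime (Nat.card G)) : IsIrrCharacter G (fun g => χ (g ^ k)) := by
  refine isIrr_of_generalized_norm_one
    (galois_isGeneralized (IsIrrCharacter.isCharacter hχ) hk) ?_ ?_
  · rw [classInner_galois χ χ hk]
    exact classInner_irr_self hχ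
  · obtain ⟨n, ρ, hρ, rfl⟩ := hχ
    simp only [one_pow, Representation.char_one]
    have := finrank_pos_of_irr hρ
    simpa using this

theorem exists_pow_inv (G : Type u) [Group G] [Fintype G] {k : ℕ} (hk : k.Coprime (Nat.card G)) :
    ∃ j : ℕ, ∀ g : G, (g ^ j) ^ k = g⁻¹ := by
  classical
  by_cases h1 : Nat.card G = 1
  · refine ⟨0, fun g => ?_⟩
    have : Subsingleton G := (Nat.card_eq_one_iff_unique.mp h1).1
    exact Subsingleton.elim _ _
  · have hpos : 0 < Nat.card G := Nat.card_pos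
    have hgt : 1 < Nat.card G := by omega
    obtain ⟨m, -, hm⟩ := Nat.exists_mul_mod_eq_one_of_coprime hk hgt
    refine ⟨m * (Nat.card G - 1), fun g => ?_⟩
    have h2 : g ^ (k * m) = g := by
      rw [← Nat.div_add_mod (k * m) (Nat.card G), hm, pow_add, pow_mul, pow_card_eq_one', one_pow,
        one_mul, pow_one]
    have h3 : (g ^ (m * (Nat.card G - 1))) ^ k = (g ^ (k * m)) ^ (Nat.card G - 1) := by
      rw [← pow_mul, ← pow_mul]
      congr 1
      ring
    rw [h3, h2]
    have h4 : g ^ (Nat.card G - 1) * g = 1 := by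
      rw [← pow_succ, Nat.sub_add_cancel hpos, pow_card_eq_one']
    exact eq_inv_of_mul_eq_one_left h4

end Cfsg.Agent.Lib.Degree
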