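import Mathlib
import Cfsg.Agent.Lib.Degree.CodPrime
import Cfsg.Agent.S0199

/-!
# Normal abelian subgroups with the Camina property

`N` is normal and abelian, and every `y ∉ N` is conjugate to all of `y N`.  Such situations arise from an
irreducible character with exactly two nonzero classes.
-/

set_option autoImplicit false
set_option linter.unusedSectionVars false
set_option linter.unusedSimpArgs false
set_option linter.unusedVariables false

namespace Cfsg.Agent.Lib.Degree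

section Camina

variable {G : Type*} [Group G] {N : Subgroup G} [hNn : N.Normal]

theorem orderOf_eq_of_conj {a b : G} (h : IsConj a b) : orderOf a = orderOf b := by
  obtain ⟨g, rfl⟩ := isConj_iff.1 h
  exact (orderOf_injective (MulAut.conj g).toMonoidHom (MulAut.conj g).injective a).symm

/-- Conjugation by a complement element is fixed point free. -/
theorem camina_fixed [Finite G] (hcam : ∀ y, y ∉ N → ∀ n ∈ N, IsConj y (y * n)) {K : Subgroup G}
    (hc : Subgroup.IsComplement' N K) {z : G} (hz : z ∈ K) (hz1 : z ≠ 1) {u : G} (hu : u ∈ N)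
    (hfix : z * u * z⁻¹ = u) : u = 1 := by
  have hdisj := hc.disjoint
  have hzN : z ∉ N := by
    intro h
    have : z ∈ N ⊓ K := ⟨h, hz⟩
    rw [hdisj.eq_bot] at this
    exact hz1 (Subgroup.mem_bot.1 this)
  let c : N → N := fun m => ⟨z⁻¹ * m * z * (m : G)⁻¹, N.mul_mem (by
    have := hNn.conj_mem m m.2 z⁻¹
    simpa using this) (N.inv_mem m.2)⟩
  have hsurj : Function.Surjective c := by
    intro n
    obtain ⟨g, hg⟩ := isConj_iff.1 (hcam z hzN n n.2)
    obtain ⟨⟨m, k⟩, hmk⟩ := hc.2 g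
    simp only at hmk
    have hgE : g = (m : G) * (k : G) := hmk.symm
    set z' : G := (k : G) * z * (k : G)⁻¹ with hz'
    have hz'K : z' ∈ K := K.mul_mem (K.mul_mem k.2 hz) (K.inv_mem k.2)
    have h1 : (m : G) * z' * (m : G)⁻¹ = z * n := by
      rw [← hg, hgE, hz']
      group
    have h2 : z'⁻¹ * z ∈ N := by
      have e : z'⁻¹ * z = (z'⁻¹ * (m : G) * z') * (m : G)⁻¹ * (n : G)⁻¹ := by
        have : z = (m : G) * z' * (m : G)⁻¹ * (n : G)⁻¹ := by
          rw [h1]
          group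
        conv_lhs => rw [this]
        have hcomm : (m : G) * z' * (m : G)⁻¹ * (n : G)⁻¹ = (m : G) * z' * (m : G)⁻¹ * (n : G)⁻¹ := rfl
        group
      rw [e]
      refine N.mul_mem (N.mul_mem ?_ (N.inv_mem m.2)) (N.inv_mem n.2)
      have := hNn.conj_mem m m.2 z'⁻¹
      simpa using this
    have h3 : z'⁻¹ * z ∈ N ⊓ K := ⟨h2, K.mul_mem (K.inv_mem hz'K) hz⟩
    rw [hdisj.eq_bot, Subgroup.mem_bot] at h3
    have h4 : z' = z := by
      have := mul_eq_one_iff_eq_inv.mp h3
      exact inv_inj.1 this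
    refine ⟨m, Subtype.ext ?_⟩
    show z⁻¹ * m * z * (m : G)⁻¹ = n
    rw [h4] at h1
    have h5 : (n : G) = z⁻¹ * ((m : G) * z * (m : G)⁻¹) := by
      rw [h1]
      group
    rw [h5]
    group
  have hinj : Function.Injective c := Finite.injective_iff_surjective.2 hsurj
  have h1 : c ⟨u, hu⟩ = c 1 := by
    apply Subtype.ext
    show z⁻¹ * u * z * u⁻¹ = z⁻¹ * ((1 : N) : G) * z * ((1 : N) : G)⁻¹
    have e : z⁻¹ * u * z = u := by
      conv_lhs => rw [← hfix]
      group
    rw [e]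
    simp
  have h2 := hinj h1
  exact congrArg Subtype.val h2

/-- The complement is regular on the non-identity elements of `N`. -/
theorem camina_card [Finite G] (hcam : ∀ y, y ∉ N → ∀ n ∈ N, IsConj y (y * n))
    (hab : ∀ a ∈ N, ∀ b ∈ N, a * b = b * a)
    (hconj : ∀ x ∈ N, x ≠ 1 → ∀ y ∈ N, y ≠ 1 → IsConj x y) {K : Subgroup G}
    (hc : Subgroup.IsComplement' N K) {x : G} (hx : x ∈ N) (hx1 : x ≠ 1) : Nat.card K + 1 = Nat.card N := by
  classical
  have hbij : Function.Bijective (fun k : K => (⟨⟨(k : G) * x * (k : G)⁻¹, hNn.conj_mem x hx k⟩, by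
      intro h
      apply hx1
      have h' := congrArg Subtype.val h
      simp only [Subgroup.coe_one] at h'
      have : x = (k : G)⁻¹ * ((k : G) * x * (k : G)⁻¹) * k := by group
      rw [this, h']
      group⟩ : {n : N // n ≠ 1})) := by
    constructor
    · intro k k' he
      have h1 : (k : G) * x * (k : G)⁻¹ = (k' : G) * x * (k' : G)⁻¹ :=
        congrArg (fun w : {n : N // n ≠ 1} => ((w.1 : N) : G)) he
      by_contra hne
      have hkk : (k' : G)⁻¹ * k ≠ 1 := by
        intro h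
        apply hne
        apply Subtype.ext
        have := mul_eq_one_iff_eq_inv.mp h
        exact (inv_inj.1 this).symm
      apply hx1
      refine camina_fixed hcam hc (K.mul_mem (K.inv_mem k'.2) k.2) hkk hx ?_
      calc (k' : G)⁻¹ * k * x * ((k' : G)⁻¹ * k)⁻¹
          = (k' : G)⁻¹ * ((k : G) * x * (k : G)⁻¹) * k' := by group
        _ = (k' : G)⁻¹ * ((k' : G) * x * (k' : G)⁻¹) * k' := by rw [h1]
        _ = x := by group
    · rintro ⟨⟨y, hy⟩, hy1⟩
      have hy1' : y ≠ 1 := fun h => hy1 (Subtype.ext h)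
      obtain ⟨g, hg⟩ := isConj_iff.1 (hconj x hx hx1 y hy hy1')
      obtain ⟨⟨m, k⟩, hmk⟩ := hc.2 g
      simp only at hmk
      refine ⟨k, ?_⟩
      apply Subtype.ext
      apply Subtype.ext
      show (k : G) * x * (k : G)⁻¹ = y
      have hgE : g = (m : G) * (k : G) := hmk.symm
      have hkx : (k : G) * x * (k : G)⁻¹ ∈ N := hNn.conj_mem x hx k
      have e := hab m m.2 _ hkx
      rw [← hg, hgE]
      calc (k : G) * x * (k : G)⁻¹
          = (m : G)⁻¹ * ((m : G) * ((k : G) * x * (k : G)⁻¹)) := by group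
        _ = (m : G)⁻¹ * (((k : G) * x * (k : G)⁻¹) * (m : G)) := by rw [e]
        _ = (m : G)⁻¹ * (k : G) * x * (k : G)⁻¹ * m := by group
        _ = _ := by
          have e2 := hab m m.2 _ hkx
          have e3 : (m : G)⁻¹ * (k : G) * x * (k : G)⁻¹ * m = (k : G) * x * (k : G)⁻¹ := by
            calc (m : G)⁻¹ * (k : G) * x * (k : G)⁻¹ * m
                = (m : G)⁻¹ * (((k : G) * x * (k : G)⁻¹) * (m : G)) := by group
              _ = (m : G)⁻¹ * ((m : G) * ((k : G) * x * (k : G)⁻¹)) := by rw [e2]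
              _ = (k : G) * x * (k : G)⁻¹ := by group
          rw [e3]
          calc (k : G) * x * (k : G)⁻¹ = (m : G) * ((k : G) * x * (k : G)⁻¹) * (m : G)⁻¹ := by
                rw [e2]
                group
            _ = _ := by group
  have h1 := Nat.card_congr (Equiv.ofBijective _ hbij)
  have h2 : Nat.card {n : N // n ≠ 1} + 1 = Nat.card N := by
    haveI := Fintype.ofFinite N
    classical
    rw [Nat.card_eq_fintype_card, Nat.card_eq_fintype_card, Fintype.card_subtype_compl]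
    have h3 : 0 < Fintype.card N := Fintype.card_pos
    simp only [Fintype.card_unique]
    omega
  omega

/-- `N` contains its centralizer when `N` is the largest normal `p`-subgroup. -/
theorem camina_centralizer [Finite G] {p : ℕ} [hp : Fact p.Prime] (hcam : ∀ y, y ∉ N → ∀ n ∈ N, IsConj y (y * n))
    (hNp : IsPGroup p N) (hN1 : N ≠ ⊥) (hcore : ∀ M : Subgroup G, M.Normal → IsPGroup p M → M ≤ N) :
    ∀ g : G, (∀ n ∈ N, g * n * g⁻¹ = n) → g ∈ N := by
  classical
  have hCnorm : (Subgroup.centralizer (N : Set G)).Normal := inferInstance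
  have hpg : IsPGroup p (Subgroup.centralizer (N : Set G)) := by
    rw [IsPGroup.iff_card]
    haveI := Fintype.ofFinite (Subgroup.centralizer (N : Set G))
    refine ⟨_, Nat.eq_prime_pow_of_unique_prime_dvd Nat.card_pos.ne' ?_⟩
    · intro q hq hd
      by_contra hne
      haveI : Fact q.Prime := ⟨hq⟩
      obtain ⟨z, hz⟩ := exists_prime_orderOf_dvd_card' q hd
      have hz' : orderOf (z : G) = q := by
        rw [Subgroup.orderOf_coe]
        exact hz
      have hzN : (z : G) ∉ N := by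
        intro h
        have h1 := orderOf_dvd_natCard (⟨(z : G), h⟩ : N)
        rw [Subgroup.orderOf_mk, hz'] at h1
        obtain ⟨k, hk⟩ := IsPGroup.iff_card.1 hNp
        rw [hk] at h1
        exact hne ((Nat.prime_dvd_prime_iff_eq hq hp.out).1 (hq.dvd_of_dvd_pow h1))
      obtain ⟨n, hn, hn1⟩ : ∃ n ∈ N, n ≠ 1 := (Subgroup.bot_or_exists_ne_one N).resolve_left hN1
      have h1 := orderOf_eq_of_conj (hcam z hzN n hn)
      have hcomm : Commute (z : G) n := (Subgroup.mem_centralizer_iff.1 z.2 n hn).symm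
      have hopn : ∃ k, orderOf n = p ^ k := by
        obtain ⟨k, hk⟩ := IsPGroup.iff_orderOf.1 hNp ⟨n, hn⟩
        exact ⟨k, by rw [← hk, Subgroup.orderOf_mk]⟩
      obtain ⟨k, hk⟩ := hopn
      have hcop : Nat.Coprime (orderOf (z : G)) (orderOf n) := by
        rw [hz', hk]
        exact Nat.Coprime.pow_right _ ((Nat.coprime_primes hq hp.out).2 hne)
      have h2 := hcomm.orderOf_mul_eq_mul_orderOf_of_coprime hcop
      rw [← h1] at h2
      have h3 : orderOf n = 1 := by
        have hz0 : orderOf (z : G) ≠ 0 := by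
          rw [hz']
          exact hq.ne_zero
        exact Nat.eq_of_mul_eq_mul_left (Nat.pos_of_ne_zero hz0) (by rw [← h2, mul_one])
      exact hn1 (orderOf_eq_one_iff.1 h3)
  intro g hg
  apply hcore _ hCnorm hpg
  rw [Subgroup.mem_centralizer_iff]
  intro n hn
  have := hg n hn
  calc n * g = (g * n * g⁻¹) * g := by rw [this]
    _ = g * n := by group

/-- Odd `p`: an involution splits the extension. -/
theorem camina_odd [Finite G] {p : ℕ} [hp : Fact p.Prime] (hp2 : p ≠ 2)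
    (hcam : ∀ y, y ∉ N → ∀ n ∈ N, IsConj y (y * n)) (hab : ∀ a ∈ N, ∀ b ∈ N, a * b = b * a)
    (hconj : ∀ x ∈ N, x ≠ 1 → ∀ y ∈ N, y ≠ 1 → IsConj x y) (hexp : ∀ a ∈ N, a ^ p = 1) (hN1 : N ≠ ⊥)
    (hcen : ∀ g : G, (∀ n ∈ N, g * n * g⁻¹ = n) → g ∈ N) : ∃ K : Subgroup G, Subgroup.IsComplement' N K := by
  classical
  obtain ⟨x, hx, hx1⟩ : ∃ x ∈ N, x ≠ 1 := (Subgroup.bot_or_exists_ne_one N).resolve_left hN1
  have htwo : ∀ u : G, u ^ 2 = 1 → u ^ p = 1 → u = 1 := by
    intro u h2 hp'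
    have h3 := Nat.dvd_gcd (orderOf_dvd_of_pow_eq_one h2) (orderOf_dvd_of_pow_eq_one hp')
    have hcop : Nat.gcd 2 p = 1 :=
      (Nat.coprime_primes Nat.prime_two hp.out).2 (Ne.symm hp2)
    rw [hcop, Nat.dvd_one] at h3
    exact orderOf_eq_one_iff.1 h3
  have hxinv : x⁻¹ ≠ x := by
    intro h
    refine hx1 (htwo x ?_ (hexp x hx))
    rw [sq]
    nth_rewrite 1 [← h]
    simp
  obtain ⟨g, hg⟩ := isConj_iff.1 (hconj x hx hx1 x⁻¹ (N.inv_mem hx) (inv_ne_one.2 hx1))
  have heven : 2 ∣ orderOf g := by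
    by_contra hodd
    have hcop : Nat.Coprime 2 (orderOf g) := (Nat.prime_two.coprime_iff_not_dvd).2 hodd
    obtain ⟨m, hm⟩ := exists_pow_eq_self_of_coprime hcop
    have h2 : Commute (g ^ 2) x := by
      have e : g ^ 2 * x * (g ^ 2)⁻¹ = x := by
        calc g ^ 2 * x * (g ^ 2)⁻¹ = g * (g * x * g⁻¹) * g⁻¹ := by rw [sq]; group
          _ = g * x⁻¹ * g⁻¹ := by rw [hg]
          _ = (g * x * g⁻¹)⁻¹ := by group
          _ = x := by rw [hg, inv_inv]
      show g ^ 2 * x = x * g ^ 2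
      calc g ^ 2 * x = (g ^ 2 * x * (g ^ 2)⁻¹) * g ^ 2 := by group
        _ = x * g ^ 2 := by rw [e]
    have h3 : Commute g x := by
      have := h2.pow_left m
      rwa [hm] at this
    apply hxinv
    rw [← hg, h3.eq]
    group
  have ht2 : orderOf (g ^ (orderOf g / 2)) = 2 := orderOf_pow_orderOf_div (orderOf_pos g).ne' heven
  obtain ⟨t, ht⟩ : ∃ t, orderOf t = 2 := ⟨_, ht2⟩
  have htt : t ^ 2 = 1 := by
    rw [← ht]
    exact pow_orderOf_eq_one t
  have htinv : t⁻¹ = t := by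
    rw [inv_eq_iff_mul_eq_one, ← sq, htt]
  have ht1 : t ≠ 1 := by
    rintro rfl
    simp at ht
  have htN : t ∉ N := fun h => ht1 (htwo t htt (hexp t h))
  have hfix : ∀ u ∈ N, t * u * t⁻¹ = u → u = 1 := by
    intro u hu hf
    have h1 := orderOf_eq_of_conj (hcam t htN u hu)
    have h2 : (t * u) ^ 2 = 1 := by
      rw [← ht, h1]
      exact pow_orderOf_eq_one _
    have h3 : u ^ 2 = 1 := by
      have e : (t * u) ^ 2 = (t * u * t⁻¹) * (t * t) * u := by rw [sq]; group
      rw [e, hf, ← sq t, htt, mul_one] at h2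
      rwa [sq]
    exact htwo u h3 (hexp u hu)
  have hinv : ∀ n ∈ N, t * n * t⁻¹ = n⁻¹ := by
    intro n hn
    have hnt := hNn.conj_mem n hn t
    have h1 := hfix (n * (t * n * t⁻¹)) (N.mul_mem hn hnt) (by
      have e : t * (n * (t * n * t⁻¹)) * t⁻¹ = (t * n * t⁻¹) * (t * t * n * (t * t)⁻¹) := by group
      rw [e, ← sq t, htt]
      simp only [one_mul, inv_one, mul_one]
      exact hab _ hnt _ hn)
    exact eq_inv_of_mul_eq_one_right h1
  refine ⟨Subgroup.centralizer ({t} : Set G), Subgroup.isComplement'_of_disjoint_and_mul_eq_univ ?_ ?_⟩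
  · rw [Subgroup.disjoint_def]
    intro u hu huc
    rw [Subgroup.mem_centralizer_singleton_iff] at huc
    refine hfix u hu ?_
    rw [← huc]
    group
  · refine Set.eq_univ_of_forall fun h => ?_
    have hm : t⁻¹ * (h * t * h⁻¹) ∈ N := by
      apply hcen
      intro n hn
      have hn' : h⁻¹ * n * h ∈ N := by
        have := hNn.conj_mem n hn h⁻¹
        simpa using this
      have e1 : (h * t * h⁻¹) * n * (h * t * h⁻¹)⁻¹ = n⁻¹ := by
        have e : (h * t * h⁻¹) * n * (h * t * h⁻¹)⁻¹ = h * (t * (h⁻¹ * n * h) * t⁻¹) * h⁻¹ := by group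
        rw [e, hinv _ hn']
        group
      have e2 : t⁻¹ * (h * t * h⁻¹) * n * (t⁻¹ * (h * t * h⁻¹))⁻¹ =
          t⁻¹ * ((h * t * h⁻¹) * n * (h * t * h⁻¹)⁻¹) * t := by group
      rw [e2, e1]
      have := hinv n⁻¹ (N.inv_mem hn)
      rw [inv_inv] at this
      calc t⁻¹ * n⁻¹ * t = t * n⁻¹ * t⁻¹ := by rw [htinv]
        _ = n := this
    obtain ⟨m, hmE⟩ : ∃ m, m = t⁻¹ * (h * t * h⁻¹) := ⟨_, rfl⟩
    rw [← hmE] at hm
    have htm : h * t * h⁻¹ = t * m := by
      rw [hmE]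
      group
    have hodd : Odd p := hp.out.odd_of_ne_two hp2
    obtain ⟨r, hr⟩ := hodd
    have hsq : (m ^ (r + 1)) * (m ^ (r + 1)) = m := by
      rw [← pow_add]
      have e : r + 1 + (r + 1) = p + 1 := by omega
      rw [e, pow_succ, hexp m hm, one_mul]
    set n₁ : G := (m ^ (r + 1))⁻¹ with hn₁
    have hn₁N : n₁ ∈ N := N.inv_mem (N.pow_mem hm _)
    have h1 : n₁ * t * n₁⁻¹ = t * m := by
      have e : n₁ * t * n₁⁻¹ = t * (t⁻¹ * n₁ * t) * n₁⁻¹ := by group
      rw [e, htinv]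
      have h2 : t * n₁ * t = n₁⁻¹ := by
        have := hinv n₁ hn₁N
        rwa [htinv] at this
      rw [h2, hn₁, inv_inv, mul_assoc, hsq]
    refine ⟨n₁, hn₁N, n₁⁻¹ * h, ?_, by simp⟩
    show n₁⁻¹ * h ∈ Subgroup.centralizer ({t} : Set G)
    rw [Subgroup.mem_centralizer_singleton_iff]
    have e : n₁⁻¹ * h * t * (n₁⁻¹ * h)⁻¹ = t := by
      calc n₁⁻¹ * h * t * (n₁⁻¹ * h)⁻¹ = n₁⁻¹ * (h * t * h⁻¹) * n₁ := by group
        _ = n₁⁻¹ * (n₁ * t * n₁⁻¹) * n₁ := by rw [htm, h1]
        _ = t := by group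
    calc n₁⁻¹ * h * t = (n₁⁻¹ * h * t * (n₁⁻¹ * h)⁻¹) * (n₁⁻¹ * h) := by group
      _ = t * (n₁⁻¹ * h) := by rw [e]

/-- The subgroup generated by two involutions whose product has `2`-power order is a `2`-group. -/
theorem isPGroup_two_of_invols {H : Type*} [Group H] {t t' : H} (ht : t ^ 2 = 1) (ht' : t' ^ 2 = 1) {k : ℕ}
    (hk : (t * t') ^ 2 ^ k = 1) : IsPGroup 2 ↥(Subgroup.zpowers t ⊔ Subgroup.zpowers t') := by
  have htinv : t⁻¹ = t := by
    rw [inv_eq_iff_mul_eq_one, ← sq, ht]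
  have ht'inv : t'⁻¹ = t' := by
    rw [inv_eq_iff_mul_eq_one, ← sq, ht']
  have htt : t * t = 1 := by rw [← sq, ht]
  obtain ⟨S, hS⟩ : ∃ S, S = Subgroup.zpowers (t * t') := ⟨_, rfl⟩
  have hinvert : ∀ s ∈ S, t * s * t = s⁻¹ := by
    rw [hS]
    rintro _ ⟨n, rfl⟩
    simp only
    have e : t * (t * t') * t⁻¹ = (t * t')⁻¹ := by
      rw [htinv, mul_inv_rev, htinv, ht'inv, ← mul_assoc, htt, one_mul]
    calc t * (t * t') ^ n * t = t * (t * t') ^ n * t⁻¹ := by rw [htinv]
      _ = (t * (t * t') * t⁻¹) ^ n := (conj_zpow).symm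
      _ = ((t * t') ^ n)⁻¹ := by rw [e, inv_zpow]
  let U : Subgroup H :=
    { carrier := {g | g ∈ S ∨ t * g ∈ S}
      one_mem' := Or.inl S.one_mem
      mul_mem' := by
        rintro a b (ha | ha) (hb | hb)
        · exact Or.inl (S.mul_mem ha hb)
        · refine Or.inr ?_
          have e : t * (a * b) = (t * a * t) * (t * b) := by
            calc t * (a * b) = t * a * (t * t) * b := by rw [htt]; group
              _ = _ := by group
          rw [e, hinvert a ha]
          exact S.mul_mem (S.inv_mem ha) hb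
        · refine Or.inr ?_
          rw [← mul_assoc]
          exact S.mul_mem ha hb
        · refine Or.inl ?_
          have e : a * b = (t * (t * a) * t) * (t * b) := by
            calc a * b = (t * t) * a * (t * t) * b := by rw [htt]; group
              _ = _ := by group
          rw [e, hinvert _ ha]
          exact S.mul_mem (S.inv_mem ha) hb
      inv_mem' := by
        rintro a (ha | ha)
        · exact Or.inl (S.inv_mem ha)
        · refine Or.inr ?_
          have e : t * a⁻¹ = t * (t * a)⁻¹ * t := by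
            rw [mul_inv_rev, htinv]
            calc t * a⁻¹ = t * a⁻¹ * (t * t) := by rw [htt, mul_one]
              _ = _ := by group
          rw [e, hinvert _ (S.inv_mem ha)]
          exact S.inv_mem (S.inv_mem ha) }
  have hle : Subgroup.zpowers t ⊔ Subgroup.zpowers t' ≤ U := by
    refine sup_le ?_ ?_
    · rw [Subgroup.zpowers_le]
      refine Or.inr ?_
      rw [htt]
      exact S.one_mem
    · rw [Subgroup.zpowers_le]
      refine Or.inr ?_
      rw [hS]
      exact Subgroup.mem_zpowers _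
  rintro ⟨g, hg⟩
  rcases hle hg with h | h
  · refine ⟨k, Subtype.ext ?_⟩
    rw [hS] at h
    obtain ⟨n, rfl⟩ := h
    simp only [SubgroupClass.coe_pow, OneMemClass.coe_one]
    rw [← zpow_natCast, ← zpow_mul, mul_comm, zpow_mul, zpow_natCast, hk, one_zpow]
  · refine ⟨1, Subtype.ext ?_⟩
    simp only [SubgroupClass.coe_pow, OneMemClass.coe_one, pow_one]
    have e : g ^ 2 = (t * (t * g) * t) * (t * g) := by
      rw [sq]
      calc g * g = (t * t) * g * (t * t) * g := by rw [htt]; group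
        _ = _ := by group
    rw [e, hinvert _ h]
    group

/-- `p = 2`: by Baer-Suzuki the quotient has odd order. -/
theorem camina_two [Finite G] (hcam : ∀ y, y ∉ N → ∀ n ∈ N, IsConj y (y * n))
    (hab : ∀ a ∈ N, ∀ b ∈ N, a * b = b * a) (hexp : ∀ a ∈ N, a ^ 2 = 1)
    (hcen : ∀ g : G, (∀ n ∈ N, g * n * g⁻¹ = n) → g ∈ N) (hNp : IsPGroup 2 N)
    (hcore : ∀ M : Subgroup G, M.Normal → IsPGroup 2 M → M ≤ N) : ¬ 2 ∣ N.index := by
  classical
  intro h2
  haveI : Fact (Nat.Prime 2) := ⟨Nat.prime_two⟩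
  obtain ⟨tb, htb⟩ := exists_prime_orderOf_dvd_card' (G := G ⧸ N) 2 h2
  have htb2 : tb ^ 2 = 1 := by
    rw [← htb]
    exact pow_orderOf_eq_one tb
  have htb1 : tb ≠ 1 := by
    rintro rfl
    simp at htb
  have hinvN : ∀ a ∈ N, a⁻¹ = a := by
    intro a ha
    rw [inv_eq_iff_mul_eq_one, ← sq, hexp a ha]
  let π : G →* G ⧸ N := QuotientGroup.mk' N
  have hπ : ∀ a : G, π a = 1 ↔ a ∈ N := fun a => by
    show ((a : G ⧸ N) = 1) ↔ a ∈ N
    exact QuotientGroup.eq_one_iff a
  have hπs : Function.Surjective π := QuotientGroup.mk'_surjective N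
  obtain ⟨g, hgπ⟩ := hπs tb
  have hXp : IsPGroup 2 (Subgroup.zpowers tb) :=
    IsPGroup.of_card (n := 1) (by rw [Nat.card_zpowers, htb, pow_one])
  have hnotN : g ∉ N := fun h => htb1 (by rw [← hgπ]; exact (hπ g).2 h)
  by_cases hall : ∀ h : G ⧸ N, IsPGroup 2 ↥(Subgroup.zpowers tb ⊔ (Subgroup.zpowers tb).map (MulAut.conj h).toMonoidHom)
  · obtain ⟨M, hMn, hMp, hXM⟩ := Cfsg.Agent.S0199.result (Subgroup.zpowers tb) hXp hall
    have hC : M.comap π ≤ N := hcore _ (hMn.comap π)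
      (IsPGroup.comap_of_ker_isPGroup hMp π (by
        have : π.ker = N := QuotientGroup.ker_mk' N
        rw [this]
        exact hNp))
    apply hnotN
    apply hC
    show π g ∈ M
    rw [hgπ]
    exact hXM (Subgroup.mem_zpowers tb)
  · push Not at hall
    obtain ⟨hb, hnot⟩ := hall
    obtain ⟨h, hhπ⟩ := hπs hb
    have hmap : (Subgroup.zpowers tb).map (MulAut.conj hb).toMonoidHom = Subgroup.zpowers (hb * tb * hb⁻¹) := by
      rw [MonoidHom.map_zpowers]
      rfl
    rw [hmap] at hnot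
    have ht'2 : (hb * tb * hb⁻¹) ^ 2 = 1 := by
      rw [conj_pow, htb2]
      group
    have hnk : ∀ k : ℕ, (tb * (hb * tb * hb⁻¹)) ^ 2 ^ k ≠ 1 := fun k hk =>
      hnot (isPGroup_two_of_invols htb2 ht'2 hk)
    set y : G := g * (h * g * h⁻¹) with hy
    have hyπ : π y = tb * (hb * tb * hb⁻¹) := by
      rw [hy]
      simp only [map_mul, map_inv, hgπ, hhπ]
    have hyN : ∀ k : ℕ, y ^ 2 ^ k ∉ N := by
      intro k hk
      apply hnk k
      rw [← hyπ, ← map_pow]
      exact (hπ _).2 hk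
    obtain ⟨a, m', hm'odd, hord⟩ := Nat.exists_eq_two_pow_mul_odd (orderOf_pos y).ne'
    set w : G := y ^ 2 ^ a with hw
    have hwN : w ∉ N := hyN a
    have hwo : orderOf w = m' := by
      rw [hw, orderOf_pow_of_dvd (pow_ne_zero _ (by norm_num)) (by rw [hord]; exact dvd_mul_right _ _), hord]
      exact Nat.mul_div_cancel_left _ (by positivity)
    have hwfix : ∀ u ∈ N, w * u * w⁻¹ = u → u = 1 := by
      intro u hu hf
      have h1 := orderOf_eq_of_conj (hcam w hwN u hu)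
      have hcomm : Commute w u := by
        show w * u = u * w
        calc w * u = (w * u * w⁻¹) * w := by group
          _ = u * w := by rw [hf]
      have hu2 : orderOf u ∣ 2 := orderOf_dvd_of_pow_eq_one (hexp u hu)
      have hcop : Nat.Coprime (orderOf w) (orderOf u) := by
        rw [hwo]
        exact Nat.Coprime.coprime_dvd_right hu2 (Nat.coprime_two_right.2 hm'odd)
      have h2 := hcomm.orderOf_mul_eq_mul_orderOf_of_coprime hcop
      rw [← h1] at h2
      have h3 : orderOf u = 1 := by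
        have h0 : 0 < orderOf w := orderOf_pos w
        exact Nat.eq_of_mul_eq_mul_left h0 (by rw [← h2, mul_one])
      exact orderOf_eq_one_iff.1 h3
    have hphi : ∀ b : G, (∀ u ∈ N, b * u * b⁻¹ = u → u = 1) → ∀ u ∈ N, ∀ v ∈ N,
        u * (b * u * b⁻¹) = v * (b * v * b⁻¹) → u = v := by
      intro b hb' u hu v hv he
      have hbu := hNn.conj_mem u hu b
      have hbv := hNn.conj_mem v hv b
      have h1 : b * (u * v⁻¹) * b⁻¹ = u * v⁻¹ := by
        have e1 : b * (u * v⁻¹) * b⁻¹ = (b * u * b⁻¹) * (b * v * b⁻¹)⁻¹ := by group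
        have e2 : b * u * b⁻¹ = u⁻¹ * (v * (b * v * b⁻¹)) := by
          rw [← he]
          group
        rw [e1, e2, hinvN u hu]
        have e3 : u * (v * (b * v * b⁻¹)) * (b * v * b⁻¹)⁻¹ = u * v := by group
        rw [e3, hinvN v hv]
      have h2 := hb' _ (N.mul_mem hu (N.inv_mem hv)) h1
      rw [hinvN v hv] at h2
      have h3 := mul_eq_one_iff_eq_inv.mp h2
      rw [hinvN v hv] at h3
      exact h3
    have hsurj : ∃ u ∈ N, u * (w * u * w⁻¹) = g ^ 2 := by
      have hv : g ^ 2 ∈ N := by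
        rw [← hπ, map_pow, hgπ, htb2]
      let φ : N → N := fun u => ⟨(u : G) * (w * u * w⁻¹), N.mul_mem u.2 (hNn.conj_mem u u.2 w)⟩
      have hinj : Function.Injective φ := by
        intro u u' he
        apply Subtype.ext
        exact hphi w hwfix u u.2 u' u'.2 (congrArg Subtype.val he)
      obtain ⟨u, hu⟩ := (Finite.injective_iff_surjective.1 hinj) ⟨g ^ 2, hv⟩
      exact ⟨u, u.2, congrArg Subtype.val hu⟩
    obtain ⟨u, hu, huE⟩ := hsurj
    have hv : g ^ 2 ∈ N := by
      rw [← hπ, map_pow, hgπ, htb2]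
    -- the relation between `g` and `w`
    have hwπ : π w = (tb * (hb * tb * hb⁻¹)) ^ 2 ^ a := by
      rw [hw, map_pow, hyπ]
    have hr : g * w * g⁻¹ * w ∈ N := by
      rw [← hπ]
      simp only [map_mul, map_inv, hgπ, hwπ]
      have e1 : tb * (tb * (hb * tb * hb⁻¹)) * tb⁻¹ = (tb * (hb * tb * hb⁻¹))⁻¹ := by
        have htinv : tb⁻¹ = tb := by rw [inv_eq_iff_mul_eq_one, ← sq, htb2]
        have ht'inv : (hb * tb * hb⁻¹)⁻¹ = hb * tb * hb⁻¹ := by rw [inv_eq_iff_mul_eq_one, ← sq, ht'2]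
        rw [mul_inv_rev, ht'inv, htinv, ← mul_assoc, ← sq, htb2, one_mul]
      have e2 : tb * (tb * (hb * tb * hb⁻¹)) ^ 2 ^ a * tb⁻¹ = ((tb * (hb * tb * hb⁻¹)) ^ 2 ^ a)⁻¹ := by
        rw [← conj_pow, e1, inv_pow]
      rw [e2, inv_mul_cancel]
    obtain ⟨r, hrE⟩ : ∃ r, r = g * w * g⁻¹ * w := ⟨_, rfl⟩
    rw [← hrE] at hr
    have hgw : g * w * g⁻¹ = r * w⁻¹ := by
      rw [hrE]
      group
    set u₁ : G := g * u * g⁻¹ with hu₁
    set u₂ : G := w * u * w⁻¹ with hu₂
    have hu₁N : u₁ ∈ N := hNn.conj_mem u hu g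
    have hu₂N : u₂ ∈ N := hNn.conj_mem u hu w
    have hgv : g * g ^ 2 * g⁻¹ = g ^ 2 := by
      rw [sq]
      group
    have hE1 : u₁ * (w⁻¹ * u₁ * w⁻¹⁻¹) = g ^ 2 := by
      have h1 : g * (u * (w * u * w⁻¹)) * g⁻¹ = g ^ 2 := by rw [huE, hgv]
      have h2 : g * (u * (w * u * w⁻¹)) * g⁻¹ = u₁ * ((g * w * g⁻¹) * u₁ * (g * w * g⁻¹)⁻¹) := by
        rw [hu₁]
        group
      rw [h2, hgw] at h1
      have hmem : w⁻¹ * u₁ * w⁻¹⁻¹ ∈ N := hNn.conj_mem u₁ hu₁N w⁻¹
      have h3 : r * w⁻¹ * u₁ * (r * w⁻¹)⁻¹ = w⁻¹ * u₁ * w⁻¹⁻¹ := by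
        have e : r * w⁻¹ * u₁ * (r * w⁻¹)⁻¹ = r * (w⁻¹ * u₁ * w⁻¹⁻¹) * r⁻¹ := by group
        rw [e, hab r hr _ hmem]
        group
      rwa [h3] at h1
    have hE2 : u₂ * (w⁻¹ * u₂ * w⁻¹⁻¹) = g ^ 2 := by
      have e : w⁻¹ * u₂ * w⁻¹⁻¹ = u := by
        rw [hu₂]
        group
      rw [e, hab _ hu₂N u hu]
      exact huE
    have hwfix' : ∀ u' ∈ N, w⁻¹ * u' * w⁻¹⁻¹ = u' → u' = 1 := by
      intro u' hu' hf
      refine hwfix u' hu' ?_
      nth_rewrite 1 [← hf]
      group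
    have h12 : u₁ = u₂ := hphi w⁻¹ hwfix' u₁ hu₁N u₂ hu₂N (hE1.trans hE2.symm)
    -- the lift of order two
    have hg₀ : (g * u) ^ 2 = 1 := by
      have e : (g * u) ^ 2 = u₁ * g ^ 2 * u := by
        rw [hu₁, sq, sq]
        group
      rw [e, hab u₁ hu₁N _ hv, mul_assoc, h12, hab u₂ hu₂N u hu, huE, ← sq]
      exact hexp _ hv
    have hg₀N : g * u ∉ N := fun h => hnotN (by
      have := N.mul_mem h (N.inv_mem hu)
      simpa using this)
    have hg₀1 : g * u ≠ 1 := fun h => hg₀N (by rw [h]; exact N.one_mem)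
    have hg₀o : orderOf (g * u) = 2 := orderOf_eq_prime hg₀ hg₀1
    apply hg₀N
    apply hcen
    intro n hn
    have h1 := orderOf_eq_of_conj (hcam _ hg₀N n hn)
    have h2 : (g * u * n) ^ 2 = 1 := by
      have := pow_orderOf_eq_one (g * u * n)
      rwa [← h1, hg₀o] at this
    have hinv0 : (g * u)⁻¹ = g * u := by
      rw [inv_eq_iff_mul_eq_one, ← sq, hg₀]
    have h3 : (g * u) * n * (g * u)⁻¹ = n⁻¹ := by
      rw [hinv0]
      rw [sq] at h2
      exact eq_inv_of_mul_eq_one_left (by rw [← h2]; group)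
    rw [h3, hinvN n hn]

end Camina

end Cfsg.Agent.Lib.Degree
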