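import Cfsg.Agent.Lib.Transfer.Tate
import Cfsg.Agent.Lib.Transfer.Hyperfocal
import Cfsg.Agent.Lib.Transfer.Comp

/-!
# Extending the linear characters of a Sylow subgroup gives a normal complement
-/

set_option autoImplicit false
set_option linter.unusedSectionVars false
set_option linter.style.haveILetI false

namespace Cfsg.Agent.Lib.Degree

open Cfsg Cfsg.Agent.Lib.Transfer

variable {G : Type*} [Group G] [Finite G] {p : ℕ} [Fact p.Prime]

/-- The linear characters of a finite group separate the points modulo the commutator subgroup. -/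
theorem mem_commutator_of_forall_hom {X : Type*} [Group X] [Finite X] {u : X}
    (h : ∀ f : X →* ℂˣ, f u = 1) : u ∈ commutator X := by
  by_contra hu
  have : Finite (Abelianization X) := inferInstanceAs (Finite (X ⧸ commutator X))
  have hne : NeZero (Monoid.exponent (Abelianization X) : ℂ) := by
    refine ⟨?_⟩
    have : Monoid.exponent (Abelianization X) ≠ 0 := Monoid.exponent_ne_zero_of_finite
    exact_mod_cast this
  have ha : (Abelianization.of u : Abelianization X) ≠ 1 := by
    intro h1
    apply hu
    exact (QuotientGroup.eq_one_iff u).mp h1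
  obtain ⟨φ, hφ⟩ := CommGroup.exists_apply_ne_one_of_hasEnoughRootsOfUnity (Abelianization X) ℂ ha
  exact hφ (h (φ.comp Abelianization.of))

/-- If every linear character of a Sylow `p`-subgroup extends to `G`, then `G` has a normal `p`-complement. -/
theorem hasNormalPComplement_of_extend (P : Sylow p G)
    (h : ∀ l : (P : Subgroup G) →* ℂˣ, ∃ ν : G →* ℂˣ, ∀ u : (P : Subgroup G), ν u = l u) :
    HasNormalPComplement p G := by
  have hpp : p.Prime := Fact.out
  have hG0 : Nat.card G ≠ 0 := Nat.card_pos.ne'
  set q := Nat.card G / p ^ (Nat.card G).factorization p with hq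
  have hqmul : p ^ (Nat.card G).factorization p * q = Nat.card G := Nat.ordProj_mul_ordCompl_eq_self _ p
  have hkill : ∀ u : (P : Subgroup G), (u : G) ∈ pResidual p G → u ∈ commutator (P : Subgroup G) := by
    intro u hu
    apply mem_commutator_of_forall_hom
    intro l
    obtain ⟨ν, hν⟩ := h l
    -- `ν ^ q` kills the residual
    have h1 : pResidual p G ≤ (ν ^ q).ker := by
      apply pResidual_le_of_forall
      intro y hy
      rw [MonoidHom.mem_ker, MonoidHom.pow_apply, ← map_pow]
      have h2 : orderOf y ∣ q := by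
        have h3 : orderOf y ∣ p ^ (Nat.card G).factorization p * q := by
          rw [hqmul]
          exact orderOf_dvd_natCard y
        exact (Nat.Coprime.pow_right _ hy).dvd_of_dvd_mul_left h3
      rw [orderOf_dvd_iff_pow_eq_one.mp h2, map_one]
    have h2 : ν (u : G) ^ q = 1 := by
      have := h1 hu
      rwa [MonoidHom.mem_ker, MonoidHom.pow_apply] at this
    rw [hν u] at h2
    obtain ⟨k, hk⟩ := (P.isPGroup' u)
    have h3 : l u ^ p ^ k = 1 := by
      rw [← map_pow, hk, map_one]
    have hcop : Nat.Coprime q (p ^ k) := by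
      apply Nat.Coprime.pow_right
      rw [Nat.coprime_comm, Nat.Prime.coprime_iff_not_dvd hpp]
      exact Nat.not_dvd_ordCompl hpp hG0
    have h4 : orderOf (l u) ∣ Nat.gcd q (p ^ k) :=
      Nat.dvd_gcd (orderOf_dvd_of_pow_eq_one h2) (orderOf_dvd_of_pow_eq_one h3)
    rw [hcop, Nat.dvd_one, orderOf_eq_one_iff] at h4
    exact h4
  have hΦ : pResidual p G ⊓ (P : Subgroup G) ≤ (frattini (P : Subgroup G)).map (P : Subgroup G).subtype := by
    rintro u ⟨hu, huP⟩
    refine ⟨⟨u, huP⟩, ?_, rfl⟩
    exact commutator_le_frattini P.isPGroup' (hkill ⟨u, huP⟩ hu)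
  have hbot : pResidual p G ⊓ (P : Subgroup G) = ⊥ := tate_core P (pResidual p G) (residual_residual p) hΦ
  have hKn : (pResidual p G).Normal := inferInstance
  have hcop : (Nat.card (pResidual p G)).Coprime p := by
    rw [Nat.coprime_comm, Nat.Prime.coprime_iff_not_dvd hpp]
    intro hd
    obtain ⟨⟨x, hx⟩, hxo⟩ := exists_prime_orderOf_dvd_card' p hd
    have hxo' : orderOf x = p := by simpa using hxo
    have hzp : IsPGroup p (Subgroup.zpowers x) :=
      IsPGroup.iff_card.mpr ⟨1, by rw [Nat.card_zpowers, hxo', pow_one]⟩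
    obtain ⟨Q, hQ⟩ := hzp.exists_le_sylow
    obtain ⟨g, hg⟩ := MulAction.exists_smul_eq G P Q
    have hxQ : x ∈ (Q : Subgroup G) := hQ (Subgroup.mem_zpowers x)
    rw [← hg, sylow_smul_mem] at hxQ
    have h1 : g⁻¹ * x * g ∈ pResidual p G := by
      have := hKn.conj_mem x hx g⁻¹
      simpa using this
    have h2 : g⁻¹ * x * g ∈ pResidual p G ⊓ (P : Subgroup G) := Subgroup.mem_inf.mpr ⟨h1, hxQ⟩
    rw [hbot] at h2
    have h3 : g⁻¹ * x * g = 1 := h2
    have h4 : x = 1 := by
      have : x = g * (g⁻¹ * x * g) * g⁻¹ := by group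
      rw [this, h3]; group
    rw [h4, orderOf_one] at hxo'
    exact hpp.one_lt.ne hxo'
  exact hasNormalPComplement_of_normal (pResidual p G) hcop isPGroup_quotient_pResidual

end Cfsg.Agent.Lib.Degree
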