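import Mathlib
import Cfsg.Agent.Lib.Degree.RootChar2
import Cfsg.Agent.Lib.Degree.Cod
import Cfsg.Agent.Lib.Degree.Inflate
import Cfsg.Agent.Lib.Degree.CaminaElt
import Cfsg.Agent.Lib.Char.Complete
import Cfsg.Agent.Lib.Char.Product

/-!
# Central scalars, vanishing from commutators, degree-square formula
-/

set_option autoImplicit false
set_option linter.unusedSectionVars false
set_option linter.unusedSimpArgs false
set_option linter.unusedVariables false
set_option linter.style.haveILetI false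

open scoped ComplexConjugate
open Module
open Cfsg

namespace Cfsg.Agent.Lib.Degree

open Cfsg.Agent.Lib.Char

universe u

section Scalars

variable {G : Type u} [Group G] [Fintype G]

/-- The scalar by which a central element acts in an irreducible representation. -/
noncomputable def cv (χ : IrrCharacter G) (z : G) : ℂ := (χ : G → ℂ) z / (χ : G → ℂ) 1

theorem irr_central_mul (χ : IrrCharacter G) {z : G} (hz : z ∈ Subgroup.center G) (g : G) :
    (χ : G → ℂ) (z * g) = cv χ z * (χ : G → ℂ) g := by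
  obtain ⟨f, hf⟩ := χ
  have hf' := hf
  obtain ⟨n, ρ, hρ, rfl⟩ := hf
  obtain ⟨c, hc⟩ := schur_scalar ρ hρ (ρ z) (by
    intro g v
    rw [← Module.End.mul_apply, ← map_mul, (Subgroup.mem_center_iff.1 hz g).symm, map_mul]
    rfl)
  have key : ∀ g, ρ.character (z * g) = c * ρ.character g := by
    intro g
    rw [Representation.character, Representation.character, map_mul, hc, smul_mul_assoc, one_mul,
      map_smul, smul_eq_mul]
  have h1 := key 1
  rw [mul_one] at h1
  have h0 : ρ.character 1 ≠ 0 := irr_degree_ne_zero ⟨_, hf'⟩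
  have h2 : cv ⟨ρ.character, hf'⟩ z = c := by
    show ρ.character z / ρ.character 1 = c
    rw [h1]
    field_simp
  rw [h2]
  exact key g

theorem cv_one (χ : IrrCharacter G) : cv χ 1 = 1 := div_self (irr_degree_ne_zero χ)

theorem cv_mul (χ : IrrCharacter G) {z : G} (hz : z ∈ Subgroup.center G) (w : G) :
    cv χ (z * w) = cv χ z * cv χ w := by
  unfold cv
  rw [irr_central_mul χ hz, mul_div_assoc]
  rfl

theorem cv_pow (χ : IrrCharacter G) {z : G} (hz : z ∈ Subgroup.center G) (n : ℕ) :
    cv χ (z ^ n) = cv χ z ^ n := by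
  induction n with
  | zero => simp [cv_one]
  | succ n ih => rw [pow_succ', cv_mul χ hz, ih, pow_succ']

theorem val_eq_cv_mul (χ : IrrCharacter G) (z : G) : (χ : G → ℂ) z = cv χ z * (χ : G → ℂ) 1 := by
  unfold cv
  rw [div_mul_cancel₀ _ (irr_degree_ne_zero χ)]

theorem norm_cv (χ : IrrCharacter G) {z : G} (hz : z ∈ Subgroup.center G) : ‖cv χ z‖ = 1 := by
  have h1 : cv χ z ^ orderOf z = 1 := by
    rw [← cv_pow χ hz, pow_orderOf_eq_one, cv_one]
  exact Complex.norm_eq_one_of_pow_eq_one h1 (orderOf_pos z).ne'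

theorem norm_central (χ : IrrCharacter G) {z : G} (hz : z ∈ Subgroup.center G) :
    ‖(χ : G → ℂ) z‖ = ‖(χ : G → ℂ) 1‖ := by
  rw [val_eq_cv_mul χ z, norm_mul, norm_cv χ hz, one_mul]

/-- The usual vanishing: if a commutator `[g,h]` is central and not in the kernel, `χ g = 0`. -/
theorem irr_eq_zero_of_comm (χ : IrrCharacter G) {g h : G}
    (hz : g⁻¹ * h⁻¹ * g * h ∈ Subgroup.center G)
    (hne : (χ : G → ℂ) (g⁻¹ * h⁻¹ * g * h) ≠ (χ : G → ℂ) 1) : (χ : G → ℂ) g = 0 := by
  set z := g⁻¹ * h⁻¹ * g * h with hzdef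
  have h1 : (χ : G → ℂ) (z * g) = (χ : G → ℂ) g := by
    rw [irr_mul_comm χ z g]
    have : g * z = h⁻¹ * g * h := by rw [hzdef]; group
    rw [this]
    apply irr_map_isConj χ
    rw [isConj_comm]
    refine isConj_iff.2 ⟨h⁻¹, ?_⟩
    group
  rw [irr_central_mul χ hz] at h1
  have h2 : cv χ z ≠ 1 := by
    intro h3
    apply hne
    rw [val_eq_cv_mul χ z, h3, one_mul]
  have h3 : (cv χ z - 1) * (χ : G → ℂ) g = 0 := by
    rw [sub_mul, h1, one_mul, sub_self]
  rcases mul_eq_zero.1 h3 with h4 | h4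
  · exact absurd (sub_eq_zero.1 h4) h2
  · exact h4

theorem mul_conj_eq_degree_sq (χ : IrrCharacter G) {z : G} (hz : z ∈ Subgroup.center G) :
    (χ : G → ℂ) z * conj ((χ : G → ℂ) z) = (charDegree (χ : G → ℂ) : ℂ) ^ 2 := by
  rw [Complex.mul_conj, Complex.normSq_eq_norm_sq, norm_central χ hz,
    map_one_eq_charDegree (IsIrrCharacter.isCharacter χ.2)]
  simp

/-- A sum of `|χ|²` over a subgroup `S` when `χ` is supported on a central subgroup `Y` of `S`. -/
theorem sum_norm_sq_on (χ : IrrCharacter G) (S Y : Subgroup G) (hYc : Y ≤ Subgroup.center G) (hYS : Y ≤ S)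
    (hv : ∀ g ∈ S, g ∉ Y → (χ : G → ℂ) g = 0) [DecidablePred (· ∈ S)] :
    ∑ g ∈ Finset.univ.filter (· ∈ S), (χ : G → ℂ) g * conj ((χ : G → ℂ) g) =
      (Nat.card Y : ℂ) * (charDegree (χ : G → ℂ) : ℂ) ^ 2 := by
  classical
  have h1 : ∑ g ∈ Finset.univ.filter (· ∈ S), (χ : G → ℂ) g * conj ((χ : G → ℂ) g) =
      ∑ g ∈ Finset.univ.filter (· ∈ Y), (χ : G → ℂ) g * conj ((χ : G → ℂ) g) := by
    symm
    apply Finset.sum_subset
    · intro g hg
      simp only [Finset.mem_filter, Finset.mem_univ, true_and] at hg ⊢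
      exact hYS hg
    · intro g hg hg'
      simp only [Finset.mem_filter, Finset.mem_univ, true_and] at hg hg'
      rw [hv g hg hg', zero_mul]
  rw [h1, Finset.sum_congr rfl (fun g hg => mul_conj_eq_degree_sq χ (hYc (Finset.mem_filter.1 hg).2))]
  rw [Finset.sum_const, nsmul_eq_mul]
  congr 2
  rw [Nat.card_eq_fintype_card, Fintype.card_subtype]

/-- `d² |Y| = |G|` when `χ` is supported on the central subgroup `Y`. -/
theorem degree_sq_mul_card (χ : IrrCharacter G) (Y : Subgroup G) (hYc : Y ≤ Subgroup.center G)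
    (hv : ∀ g, g ∉ Y → (χ : G → ℂ) g = 0) :
    charDegree (χ : G → ℂ) ^ 2 * Nat.card Y = Nat.card G := by
  classical
  have h1 := classInner_irr_self χ.2
  rw [classInner_def] at h1
  have h2 := sum_norm_sq_on χ ⊤ Y hYc le_top (fun g _ hg => hv g hg)
  have h3 : (Finset.univ.filter (· ∈ (⊤ : Subgroup G))) = Finset.univ := by
    ext g; simp
  rw [h3] at h2
  rw [h2] at h1
  have hc : (Nat.card G : ℂ) ≠ 0 := by
    exact_mod_cast Nat.card_pos.ne'
  have h4 : (Nat.card Y : ℂ) * (charDegree (χ : G → ℂ) : ℂ) ^ 2 = (Nat.card G : ℂ) := by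
    field_simp at h1
    linear_combination h1
  have h5 : ((charDegree (χ : G → ℂ) ^ 2 * Nat.card Y : ℕ) : ℂ) = (Nat.card G : ℂ) := by
    push_cast
    rw [← h4]; ring
  exact_mod_cast h5

/-- An irreducible character of an abelian group is linear. -/
theorem irr_linear_of_comm' (hab : ∀ a b : G, a * b = b * a) (lam : IrrCharacter G) :
    (lam : G → ℂ) 1 = 1 := by
  classical
  by_contra hne
  refine irr_degree_ne_zero lam (vanish_of_card_centralizer_le (w := 1) ?_ lam hne)
  have hc : commutator G = ⊥ := by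
    rw [_root_.commutator_def, Subgroup.commutator_eq_bot_iff_le_centralizer]
    intro g _
    exact Subgroup.mem_centralizer_iff.2 fun h _ => hab h g
  rw [hc, Subgroup.index_bot]
  exact Subgroup.card_le_card_group _

end Scalars

section Linear

variable {G : Type u} [Group G] [Fintype G]

theorem charDegree_eq_one_iff (χ : IrrCharacter G) :
    charDegree (χ : G → ℂ) = 1 ↔ (χ : G → ℂ) 1 = 1 := by
  rw [map_one_eq_charDegree (IsIrrCharacter.isCharacter χ.2)]
  norm_cast

/-- If the commutator subgroup is in the kernel the character is linear. -/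
theorem charDegree_one_of_commutator_ker (χ : IrrCharacter G)
    (h : ∀ c ∈ commutator G, (χ : G → ℂ) c = (χ : G → ℂ) 1) : charDegree (χ : G → ℂ) = 1 := by
  classical
  obtain ⟨ψ, rfl⟩ := exists_inflate (N := commutator G) (χ := χ) h
  rw [charDegree_eq_one_iff]
  letI : Fintype (G ⧸ commutator G) := Fintype.ofFinite _
  have := irr_linear_of_comm' (G := G ⧸ commutator G) (fun a b => @mul_comm (Abelianization G) _ a b) ψ
  rw [inflate_apply]
  exact this

/-- A linear character kills the commutator subgroup. -/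
theorem val_commutator_of_linear (χ : IrrCharacter G) (h : charDegree (χ : G → ℂ) = 1) {c : G}
    (hc : c ∈ commutator G) : (χ : G → ℂ) c = (χ : G → ℂ) 1 := by
  have h1 := (charDegree_eq_one_iff χ).1 h
  rw [h1, irr_linear_commutator χ h1 hc]

/-- Irreducible characters separate points from the identity. -/
theorem exists_irr_ne_degree {c : G} (hc : c ≠ 1) : ∃ χ : IrrCharacter G, (χ : G → ℂ) c ≠ (χ : G → ℂ) 1 := by
  classical
  by_contra hcon
  push Not at hcon
  have h1 := sum_irr_degree_mul c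
  have h2 := sum_irr_degree_mul (1 : G)
  rw [if_neg hc] at h1
  rw [if_pos rfl] at h2
  have h3 : ∑ χ : IrrCharacter G, (χ : G → ℂ) 1 * (χ : G → ℂ) c =
      ∑ χ : IrrCharacter G, (χ : G → ℂ) 1 * (χ : G → ℂ) 1 :=
    Finset.sum_congr rfl fun χ _ => by rw [hcon χ]
  rw [h1, h2] at h3
  have h4 : (Fintype.card G : ℂ) ≠ 0 := by
    exact_mod_cast Fintype.card_ne_zero
  exact h4 h3.symm

/-- Nonabelian groups have a nonlinear irreducible character. -/
theorem exists_nonlinear (hna : ¬ IsMulCommutative G) :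
    ∃ χ : IrrCharacter G, charDegree (χ : G → ℂ) ≠ 1 := by
  classical
  by_contra hcon
  push Not at hcon
  apply hna
  refine ⟨⟨fun a b => ?_⟩⟩
  by_contra hab
  have hc : a * b * a⁻¹ * b⁻¹ ≠ 1 := by
    intro h
    apply hab
    have h2 : a * b = b * a := by
      have : a * b * a⁻¹ = b := mul_inv_eq_one.1 h
      exact (mul_inv_eq_iff_eq_mul.1 this)
    exact h2
  have hc' : a * b * a⁻¹ * b⁻¹ ∈ commutator G := by
    have := Subgroup.commutator_mem_commutator (G := G) (H₁ := ⊤) (H₂ := ⊤) (g₁ := a) (g₂ := b) trivial trivial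
    simpa [commutatorElement_def, _root_.commutator_def] using this
  obtain ⟨χ, hχ⟩ := exists_irr_ne_degree hc
  exact hχ (val_commutator_of_linear χ (hcon χ) hc')

end Linear

end Cfsg.Agent.Lib.Degree
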