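import Cfsg.Agent.Lib.Degree.ExtendLinear
import Cfsg.Agent.Lib.Block.Kernel
import Cfsg.Agent.Lib.CharExtra.Knorr
import Cfsg.Agent.Lib.CharExtra.FS
import Cfsg.Agent.Lib.FF.Residual
import Cfsg.Agent.Lib.FF.SylowIn
import Cfsg.Agent.Lib.Degree.Sums
import Cfsg.Agent.Lib.Degree.Linear
import Cfsg.Agent.Lib.Degree.Inflate

/-!
# Normal subgroups, fixed-point-free actions and characters of degree prime to `p`
-/

set_option autoImplicit false
set_option linter.unusedSectionVars false
set_option linter.style.haveILetI false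
set_option linter.unusedVariables false

open scoped ComplexConjugate

namespace Cfsg.Agent.Lib.Degree

open Cfsg Cfsg.Agent.Lib.Char Cfsg.Agent.Lib.Block Cfsg.Agent.Lib.Transfer

section Z

variable {X : Type*} [Group X] [Finite X] {p : ℕ} [hp : Fact p.Prime]

/-- A fixed-point-free `p`-action on a normal subgroup `W` forces the `p'`-degree characters of `X` to
contain `W` in their kernel. -/
theorem kerContains_of_fixedPointFree (Q : Subgroup X) (hQ : IsPGroup p Q) (W : Subgroup X) [hW : W.Normal]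
    (hfree : ∀ w ∈ W, (∀ q ∈ Q, q * w * q⁻¹ = w) → w = 1)
    (χ : IrrCharacter X) (hdeg : ¬ p ∣ charDegree (χ : X → ℂ)) :
    ∀ w ∈ W, (χ : X → ℂ) w = (χ : X → ℂ) 1 := by
  classical
  have hpp : p.Prime := Fact.out
  have := Fintype.ofFinite X
  obtain ⟨M, hM⟩ := Cfsg.Agent.Lib.CharExtra.exists_isPModular p hpp
  have := isPModular_isPrime hM
  rw [← classInner_one_iff W χ]
  letI act : MulAction ↥Q ↥W := MulAction.compHom ↥W ((MulAut.conjNormal (H := W)).comp Q.subtype)
  have hsmul : ∀ (q : ↥Q) (x : ↥W), ((q • x : ↥W) : X) = (q : X) * x * (q : X)⁻¹ := by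
    intro q x
    show ((MulAut.conjNormal (q : X) x : ↥W) : X) = _
    rw [MulAut.conjNormal_apply]
  let w' : ↥W → ℂ := fun x => if x = 1 then 0 else (χ : X → ℂ) x
  have hone : ∀ (q : ↥Q) (x : ↥W), q • x = 1 ↔ x = 1 := by
    intro q x
    constructor
    · intro h
      have h1 := hsmul q x
      rw [h] at h1
      apply Subtype.ext
      have h2 : (1 : X) = (q : X) * x * (q : X)⁻¹ := h1
      have h3 : (q : X)⁻¹ * 1 * (q : X) = (x : X) := by
        rw [h2]
        group
      simpa using h3.symm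
    · rintro rfl
      apply Subtype.ext
      rw [hsmul]
      simp
  have hsum := Cfsg.Agent.Lib.CharExtra.memLocalIdeal_sum_of_fixed hM (Γ := ↥Q) (X := ↥W) hQ w'
    (by
      intro γ x
      by_cases hx : x = 1
      · simp only [w', if_pos hx, if_pos ((hone γ x).mpr hx)]
      · simp only [w', if_neg hx, if_neg (fun h => hx ((hone γ x).mp h))]
        rw [hsmul]
        exact IsCharacter.isClassFunction (IsIrrCharacter.isCharacter χ.2) _ _)
    (by
      intro x
      simp only [w']
      split_ifs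
      · exact memLocalRing_zero
      · exact char_isIntegral_local _)
    (by
      intro x hx
      have hx1 : x = 1 := by
        apply Subtype.ext
        apply hfree x x.2
        intro q hq
        have := congrArg Subtype.val (hx ⟨q, hq⟩)
        rwa [hsmul] at this
      simp only [w', if_pos hx1]
      exact memLocalIdeal_zero)
  have hsplit : ∑ x : ↥W, (χ : X → ℂ) x = (χ : X → ℂ) 1 + ∑ x : ↥W, w' x := by
    have h1 : ∀ x : ↥W, (χ : X → ℂ) x = (if x = 1 then (χ : X → ℂ) 1 else 0) + w' x := by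
      intro x
      by_cases hx : x = 1
      · simp [w', hx]
      · simp [w', hx]
    rw [Finset.sum_congr rfl fun x _ => h1 x, Finset.sum_add_distrib, Finset.sum_ite_eq' Finset.univ (1 : ↥W)]
    simp
  intro h0
  unfold classInner at h0
  simp only [oneIrr_coe, map_one, mul_one] at h0
  have hc : (Nat.card ↥W : ℂ)⁻¹ ≠ 0 := inv_ne_zero (by exact_mod_cast Nat.card_pos.ne')
  have h2 := (mul_eq_zero.mp h0).resolve_left hc
  rw [hsplit] at h2
  have h3 : (χ : X → ℂ) 1 = - ∑ x : ↥W, w' x := by linear_combination h2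
  have h4 : MemLocalIdeal M ((charDegree (χ : X → ℂ) : ℕ) : ℂ) := by
    rw [← map_one_eq_charDegree (IsIrrCharacter.isCharacter χ.2), h3]
    exact memLocalIdeal_neg hsum
  exact hdeg ((memLocalIdeal_natCast_iff hM _).mp h4)

/-- **Lemma Z.** A normal subgroup containing an abelian self-normalizing (in it) Sylow subgroup, and a
collectively faithful family of characters of degree prime to `p`: the subgroup is the Sylow subgroup. -/
theorem eq_sylow_of_selfNorm (Q : Sylow p X)
    (hab : ∀ a ∈ (Q : Subgroup X), ∀ b ∈ (Q : Subgroup X), a * b = b * a)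
    (R : Subgroup X) [hR : R.Normal] (hQR : (Q : Subgroup X) ≤ R)
    (hself : ∀ y ∈ R, y ∈ Subgroup.normalizer ((Q : Subgroup X) : Set X) → y ∈ (Q : Subgroup X))
    (S : Set (IrrCharacter X)) (hdeg : ∀ χ ∈ S, ¬ p ∣ charDegree (χ : X → ℂ))
    (hfaith : ∀ x : X, (∀ χ ∈ S, (χ : X → ℂ) x = (χ : X → ℂ) 1) → x = 1) :
    R = (Q : Subgroup X) := by
  classical
  have hpp : p.Prime := Fact.out
  have := Fintype.ofFinite X
  let Q₀ : Sylow p ↥R := Q.subtype hQR
  have hQ₀ : (Q₀ : Subgroup ↥R) = (Q : Subgroup X).subgroupOf R := rfl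
  have hmemQ₀ : ∀ y : ↥R, y ∈ (Q₀ : Subgroup ↥R) ↔ (y : X) ∈ (Q : Subgroup X) := by
    intro y
    rw [hQ₀, Subgroup.mem_subgroupOf]
  have hN : Subgroup.normalizer ((Q₀ : Subgroup ↥R) : Set ↥R) ≤ Subgroup.centralizer ((Q₀ : Subgroup ↥R) : Set ↥R) := by
    intro y hy
    have hy' : (y : X) ∈ Subgroup.normalizer ((Q : Subgroup X) : Set X) := by
      rw [Subgroup.mem_normalizer_iff]
      intro h
      constructor
      · intro hh
        have h1 : (⟨h, hQR hh⟩ : ↥R) ∈ (Q₀ : Subgroup ↥R) := (hmemQ₀ _).mpr hh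
        have h2 := (Subgroup.mem_normalizer_iff.mp hy _).mp h1
        exact (hmemQ₀ _).mp h2
      · intro hh
        have hhR : h ∈ R := by
          have h3 := R.mul_mem (R.mul_mem (R.inv_mem y.2) (hQR hh)) y.2
          have e : (y : X)⁻¹ * ((y : X) * h * (y : X)⁻¹) * (y : X) = h := by group
          rwa [e] at h3
        have h1 : (⟨h, hhR⟩ : ↥R) ∈ (Q₀ : Subgroup ↥R) ↔
            y * ⟨h, hhR⟩ * y⁻¹ ∈ (Q₀ : Subgroup ↥R) := Subgroup.mem_normalizer_iff.mp hy _
        exact (hmemQ₀ _).mp (h1.mpr ((hmemQ₀ _).mpr hh))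
    have hyQ := hself (y : X) y.2 hy'
    rw [Subgroup.mem_centralizer_iff]
    intro a ha
    apply Subtype.ext
    exact hab _ ((hmemQ₀ a).mp ha) _ hyQ
  have hcomp := MonoidHom.ker_transferSylow_isComplement' Q₀ hN
  let f : ↥R →* ↥(Q₀ : Subgroup ↥R) := MonoidHom.transferSylow Q₀ hN
  have hT : pResidual p ↥R ≤ f.ker := pResidual_le_ker Q₀.isPGroup' f
  have hWn : ((pResidual p ↥R).map R.subtype).Normal := residual_map_normal (p := p) R
  have hfree : ∀ w ∈ (pResidual p ↥R).map R.subtype, (∀ q ∈ (Q : Subgroup X), q * w * q⁻¹ = w) → w = 1 := by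
    rintro _ ⟨t, ht, rfl⟩ hfix
    have htq : (t : X) ∈ (Q : Subgroup X) := by
      apply hself _ t.2
      rw [Subgroup.mem_normalizer_iff]
      intro h
      show h ∈ (Q : Subgroup X) ↔ (t : X) * h * (t : X)⁻¹ ∈ (Q : Subgroup X)
      constructor
      · intro hh
        have h1 := hfix h hh
        have h2 : (t : X) * h * (t : X)⁻¹ = h := by
          have h3 : h * (t : X) = (t : X) * h := by
            have h4 : h * (t : X) * h⁻¹ = t := h1
            calc h * (t : X) = h * (t : X) * h⁻¹ * h := by group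
              _ = _ := by rw [h4]
          rw [← h3]
          group
        rwa [h2]
      · intro hh
        have h1 := hfix _ hh
        have h3 : ((t : X) * h * (t : X)⁻¹) * (t : X) = (t : X) * ((t : X) * h * (t : X)⁻¹) := by
          have h4 : ((t : X) * h * (t : X)⁻¹) * (t : X) * ((t : X) * h * (t : X)⁻¹)⁻¹ = t := h1
          calc ((t : X) * h * (t : X)⁻¹) * (t : X)
              = ((t : X) * h * (t : X)⁻¹) * (t : X) * ((t : X) * h * (t : X)⁻¹)⁻¹ * ((t : X) * h * (t : X)⁻¹) := by group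
            _ = _ := by rw [h4]
        have h5 : h = (t : X) * h * (t : X)⁻¹ := by
          have h6 : (t : X) * h = (t : X) * ((t : X) * h * (t : X)⁻¹) := by
            calc (t : X) * h = ((t : X) * h * (t : X)⁻¹) * (t : X) := by group
              _ = _ := h3
          exact mul_left_cancel h6
        rw [h5]
        exact hh
    have h1 : t ∈ f.ker ⊓ (Q₀ : Subgroup ↥R) := ⟨hT ht, (hmemQ₀ t).mpr htq⟩
    rw [disjoint_iff.mp hcomp.disjoint] at h1
    have h2 : t = 1 := h1
    rw [h2]
    rfl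
  have hker : ∀ w ∈ (pResidual p ↥R).map R.subtype, w = 1 := by
    intro w hw
    apply hfaith
    intro χ hχ
    exact kerContains_of_fixedPointFree (Q : Subgroup X) Q.isPGroup' _ hfree χ (hdeg χ hχ) w hw
  have hTbot : pResidual p ↥R = ⊥ := by
    rw [eq_bot_iff]
    intro t ht
    have := hker _ ⟨t, ht, rfl⟩
    exact Subtype.ext this
  have hRp : IsPGroup p ↥R := by
    intro y
    obtain ⟨k, hk⟩ := isPGroup_quotient_pResidual (G := ↥R) (p := p) (QuotientGroup.mk y)
    refine ⟨k, ?_⟩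
    rw [← QuotientGroup.mk_pow, QuotientGroup.eq_one_iff, hTbot] at hk
    exact hk
  exact Q.is_maximal' hRp hQR

end Z

section NormalSylow

variable {N : Type*} [Group N] [Finite N] {p : ℕ} [hp : Fact p.Prime]

/-- A character of degree prime to `p` of a group with a normal `p`-subgroup `A` has the commutator of `A`
in its kernel. -/
theorem char_commutator_of_not_dvd (A : Subgroup N) [hA : A.Normal] (hAp : IsPGroup p A) (θ : IrrCharacter N)
    (hθ : ¬ p ∣ charDegree (θ : N → ℂ)) {x : ↥A} (hx : x ∈ commutator ↥A) :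
    (θ : N → ℂ) x = (θ : N → ℂ) 1 := by
  classical
  have hpp : p.Prime := Fact.out
  have := Fintype.ofFinite N
  have hres : IsCharacter ↥A (fun n : ↥A => (θ : N → ℂ) n) := IsCharacter.restrict A (IsIrrCharacter.isCharacter θ.2)
  have hsum := classFunction_eq_sum (fun n : ↥A => (θ : N → ℂ) n) (IsCharacter.isClassFunction hres)
  have hmult : ∀ η : IrrCharacter ↥A, ∃ n : ℕ, classInner (fun n : ↥A => (θ : N → ℂ) n) (η : ↥A → ℂ) = (n : ℂ) :=
    fun η => classInner_isCharacter_nat hres (IsIrrCharacter.isCharacter η.2)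
  choose a ha using hmult
  have hone : ∀ u : ↥A, (θ : N → ℂ) u = ∑ η : IrrCharacter ↥A, (a η : ℂ) * (η : ↥A → ℂ) u := by
    intro u
    have := congrFun hsum u
    simp only [Finset.sum_apply, Pi.smul_apply, smul_eq_mul, ha] at this
    exact this
  -- some constituent
  have hex : ∃ η₀ : IrrCharacter ↥A, a η₀ ≠ 0 := by
    by_contra hcon
    push Not at hcon
    have h1 := hone 1
    simp only [hcon, Nat.cast_zero, zero_mul, Finset.sum_const_zero] at h1
    exact Cfsg.Agent.Lib.Degree.irr_degree_ne_zero θ (by simpa using h1)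
  obtain ⟨η₀, hη₀⟩ := hex
  have hne : ∀ η : IrrCharacter ↥A, a η ≠ 0 → (η : ↥A → ℂ) 1 = (η₀ : ↥A → ℂ) 1 := by
    intro η hη
    obtain ⟨g, hg⟩ := clifford_constituent_conj hA θ.2 η₀.2 η.2
      (by rw [ha]; exact_mod_cast hη₀) (by rw [ha]; exact_mod_cast hη)
    rw [hg]
    show (η₀ : ↥A → ℂ) ⟨g * ((1 : ↥A) : N) * g⁻¹, _⟩ = _
    have e : (⟨g * ((1 : ↥A) : N) * g⁻¹, hA.conj_mem _ (1 : ↥A).2 g⟩ : ↥A) = 1 := Subtype.ext (by simp)
    rw [e]
  -- the degree
  have hd1 : (θ : N → ℂ) 1 = (∑ η : IrrCharacter ↥A, (a η : ℂ)) * (η₀ : ↥A → ℂ) 1 := by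
    have h1 := hone 1
    rw [Finset.sum_mul]
    simp only [OneMemClass.coe_one] at h1
    rw [h1]
    refine Finset.sum_congr rfl fun η _ => ?_
    by_cases h : a η = 0
    · simp [h]
    · rw [hne η h]
  have hd2 : charDegree (θ : N → ℂ) = (∑ η : IrrCharacter ↥A, a η) * charDegree (η₀ : ↥A → ℂ) := by
    apply charDegree_natCast
    rw [hd1, map_one_eq_charDegree (IsIrrCharacter.isCharacter η₀.2)]
    push_cast
    rfl
  have hd3 : charDegree (η₀ : ↥A → ℂ) = 1 := by
    obtain ⟨k, hk⟩ := IsPGroup.iff_card.mp hAp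
    have h1 := Cfsg.Agent.Lib.Char.charDegree_dvd_card η₀.2
    rw [hk] at h1
    obtain ⟨j, -, hj⟩ := (Nat.dvd_prime_pow hpp).mp h1
    rcases j with _ | j
    · simpa using hj
    · exfalso
      apply hθ
      rw [hd2, hj]
      exact dvd_mul_of_dvd_right (dvd_pow_self p j.succ_ne_zero) _
  have hlin : ∀ η : IrrCharacter ↥A, a η ≠ 0 → (η : ↥A → ℂ) 1 = 1 := by
    intro η hη
    rw [hne η hη, map_one_eq_charDegree (IsIrrCharacter.isCharacter η₀.2), hd3]
    simp
  rw [hone x]
  have h1 := hone 1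
  simp only [OneMemClass.coe_one] at h1
  rw [h1]
  refine Finset.sum_congr rfl fun η _ => ?_
  by_cases h : a η = 0
  · simp [h]
  · rw [irr_linear_commutator η (hlin η h) hx, hlin η h]

/-- Restriction to `A` of the characters of degree prime to `p` sees `A / A'`. -/
theorem mem_commutator_of_char (A : Subgroup N) [hA : A.Normal] (hidx : ¬ p ∣ A.index) (x : ↥A)
    (hx : ∀ θ : IrrCharacter N, ¬ p ∣ charDegree (θ : N → ℂ) → (θ : N → ℂ) x = (θ : N → ℂ) 1) :
    x ∈ commutator ↥A := by
  classical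
  have hpp : p.Prime := Fact.out
  have := Fintype.ofFinite N
  apply mem_commutator_of_forall_hom
  intro l
  let φ : ↥A → ℂ := fun u => (l u : ℂ)
  have hφ : IsIrrCharacter ↥A φ := isIrrCharacter_of_hom l
  have hF : IsCharacter N (indFun A φ) := indFun_isCharacter A (IsIrrCharacter.isCharacter hφ)
  have hcf := classFunction_eq_sum (indFun A φ) (IsCharacter.isClassFunction hF)
  have hmult : ∀ θ : IrrCharacter N, ∃ n : ℕ, classInner (indFun A φ) (θ : N → ℂ) = (n : ℂ) :=
    fun θ => classInner_isCharacter_nat hF (IsIrrCharacter.isCharacter θ.2)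
  choose c hc using hmult
  have hone : (A.index : ℕ) = ∑ θ : IrrCharacter N, c θ * charDegree (θ : N → ℂ) := by
    have h1 := congrFun hcf 1
    rw [indFun_one] at h1
    simp only [Finset.sum_apply, Pi.smul_apply, smul_eq_mul, hc] at h1
    have h2 : φ 1 = 1 := by simp [φ]
    rw [h2, mul_one] at h1
    have h3 : ((A.index : ℕ) : ℂ) = ((∑ θ : IrrCharacter N, c θ * charDegree (θ : N → ℂ) : ℕ) : ℂ) := by
      rw [h1]
      push_cast
      refine Finset.sum_congr rfl fun θ _ => ?_
      rw [map_one_eq_charDegree (IsIrrCharacter.isCharacter θ.2)]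
    exact_mod_cast h3
  have hex : ∃ θ : IrrCharacter N, c θ ≠ 0 ∧ ¬ p ∣ charDegree (θ : N → ℂ) := by
    by_contra hcon
    push Not at hcon
    apply hidx
    rw [hone]
    refine Finset.dvd_sum fun θ _ => ?_
    by_cases h : c θ = 0
    · simp [h]
    · exact dvd_mul_of_dvd_right (hcon θ h) _
  obtain ⟨θ, hθ0, hθ⟩ := hex
  have hne : classInner φ (fun u : ↥A => (θ : N → ℂ) u) ≠ 0 := by
    rw [← frobenius_reciprocity A φ _ (IsCharacter.isClassFunction (IsIrrCharacter.isCharacter θ.2)), hc]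
    exact_mod_cast hθ0
  have hker : ∀ u : ↥A, (θ : N → ℂ) ((x * u : ↥A) : N) = (θ : N → ℂ) u := by
    intro u
    exact irr_mul_of_ker θ (hx θ hθ) _
  have hs : ∑ u : ↥A, φ u * conj ((θ : N → ℂ) u) =
      (l x : ℂ) * ∑ u : ↥A, φ u * conj ((θ : N → ℂ) u) := by
    rw [Finset.mul_sum]
    have h0 := (Fintype.sum_equiv (Equiv.mulLeft x) (fun u => φ (x * u) * conj ((θ : N → ℂ) ((x * u : ↥A) : N)))
      (fun u => φ u * conj ((θ : N → ℂ) u)) (fun u => rfl)).symm
    rw [h0]
    refine Finset.sum_congr rfl fun u _ => ?_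
    rw [hker u]
    simp only [φ, map_mul, Units.val_mul]
    ring
  unfold classInner at hne
  have hs0 : ∑ u : ↥A, φ u * conj ((θ : N → ℂ) u) ≠ 0 := right_ne_zero_of_mul hne
  have h1 : (l x : ℂ) = 1 := by
    have h2 : ((l x : ℂ) - 1) * ∑ u : ↥A, φ u * conj ((θ : N → ℂ) u) = 0 := by
      linear_combination -hs
    exact sub_eq_zero.mp ((mul_eq_zero.mp h2).resolve_right hs0)
  exact Units.ext h1

/-- The characters with a normal subgroup `A` in their kernel cut out `A`. -/
theorem mem_of_char (A : Subgroup N) [hA : A.Normal] (x : N)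
    (hx : ∀ θ : IrrCharacter N, (∀ a ∈ A, (θ : N → ℂ) a = (θ : N → ℂ) 1) → (θ : N → ℂ) x = (θ : N → ℂ) 1) :
    x ∈ A := by
  classical
  have : Fintype (N ⧸ A) := Fintype.ofFinite _
  rw [← QuotientGroup.eq_one_iff]
  have h1 : IsConj (x : N ⧸ A) 1 := by
    rw [isConj_iff_forall_irr]
    intro ψ
    have := hx (inflate A ψ) (inflate_kerContains A ψ)
    simpa using this
  exact isConj_one_right.mp h1.symm

/-- The characters with `A` in the kernel have degree dividing the index. -/
theorem degree_dvd_index_of_ker (A : Subgroup N) [hA : A.Normal] (θ : IrrCharacter N)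
    (h : ∀ a ∈ A, (θ : N → ℂ) a = (θ : N → ℂ) 1) : charDegree (θ : N → ℂ) ∣ A.index := by
  obtain ⟨ψ, rfl⟩ := exists_inflate A h
  have h1 : charDegree ((inflate A ψ : IrrCharacter N) : N → ℂ) = charDegree (ψ : N ⧸ A → ℂ) := by
    unfold charDegree
    simp
  rw [h1]
  exact Cfsg.Agent.Lib.Char.charDegree_dvd_card ψ.2

end NormalSylow

section KerSet

variable {G : Type*} [Group G] [Finite G]

/-- The common kernel of a set of irreducible characters. -/
def kerSet (S : Set (IrrCharacter G)) : Subgroup G where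
  carrier := {g | ∀ χ ∈ S, (χ : G → ℂ) g = (χ : G → ℂ) 1}
  one_mem' := fun _ _ => rfl
  mul_mem' := fun ha hb χ hχ => by rw [irr_mul_of_ker χ (ha χ hχ), hb χ hχ]
  inv_mem' := fun ha χ hχ => irr_inv_of_ker χ (ha χ hχ)

theorem mem_kerSet {S : Set (IrrCharacter G)} {g : G} :
    g ∈ kerSet S ↔ ∀ χ ∈ S, (χ : G → ℂ) g = (χ : G → ℂ) 1 := Iff.rfl

instance kerSet_normal (S : Set (IrrCharacter G)) : (kerSet S).Normal := by
  constructor
  intro n hn g χ hχ
  rw [← hn χ hχ]
  exact IsCharacter.isClassFunction (IsIrrCharacter.isCharacter χ.2) _ _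

theorem kerSet_anti {S T : Set (IrrCharacter G)} (h : S ⊆ T) : kerSet T ≤ kerSet S :=
  fun _ hg χ hχ => hg χ (h hχ)

end KerSet

end Cfsg.Agent.Lib.Degree
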