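import Cfsg.Agent.Lib.Degree.ClassProd
import Cfsg.Agent.Lib.CharExtra.FS
import Cfsg.Agent.Lib.Char.OddOrder
import Mathlib

/-!
# Odd degrees and real elements with odd centralizer.

If an involution `s` inverts `u ≠ 1` of odd order and `C(u)` has odd order then some irreducible
character has even degree.
-/

set_option autoImplicit false
set_option linter.unusedSectionVars false

open scoped ComplexConjugate
open Module

namespace Cfsg.Agent.Lib.Degree

open Cfsg (classInner IsCharacter IsIrrCharacter IrrCharacter IsClassFunction charDegree)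
open Cfsg.Agent.Lib.Char
open Cfsg.Agent.Lib.CharExtra

universe u

section Pairing

/-- A sum over a set on which an involution acts without fixed points and preserving the summand
is twice a sum over a smaller set. -/
theorem exists_sum_eq_two_mul {α : Type*} [Fintype α] (i : α → α) (hi : ∀ x, i (i x) = x)
    (s : Finset α) (hs : ∀ x ∈ s, i x ∈ s ∧ i x ≠ x) (f : α → ℂ) (hf : ∀ x ∈ s, f (i x) = f x) :
    ∃ t : Finset α, ∑ x ∈ s, f x = 2 * ∑ x ∈ t, f x := by
  classical
  let e := Fintype.equivFin α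
  refine ⟨s.filter (fun x => e x < e (i x)), ?_⟩
  rw [← Finset.sum_filter_add_sum_filter_not s (fun x => e x < e (i x)), two_mul]
  congr 1
  refine Finset.sum_nbij' i i ?_ ?_ (fun x _ => hi x) (fun x _ => hi x) ?_
  · intro x hx
    simp only [Finset.mem_filter] at hx ⊢
    refine ⟨(hs x hx.1).1, ?_⟩
    rw [hi]
    have h1 : e (i x) ≠ e x := fun h2 => (hs x hx.1).2 (e.injective h2)
    exact lt_of_le_of_ne (not_lt.mp hx.2) h1
  · intro x hx
    simp only [Finset.mem_filter] at hx ⊢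
    refine ⟨(hs x hx.1).1, ?_⟩
    rw [hi]
    exact not_lt.mpr hx.2.le
  · intro x hx
    exact (hf x (Finset.mem_filter.mp hx).1).symm

end Pairing

section OddDeg

variable {G : Type u} [Group G] [Fintype G]

theorem irr_add_involution (χ : IrrCharacter G) {s : G} (hs : s * s = 1) (hs1 : s ≠ 1) :
    ∃ n : ℕ, (χ : G → ℂ) 1 + (χ : G → ℂ) s = 2 * n := by
  classical
  letI F : Fintype (Subgroup.zpowers s) := Fintype.ofFinite _
  obtain ⟨n, hn⟩ := sum_irr_inv_eq_card_mul (Subgroup.zpowers s) χ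
  refine ⟨n, ?_⟩
  have hord : orderOf s = 2 := orderOf_eq_prime (by rw [pow_two, hs]) hs1
  have hcard : Nat.card (Subgroup.zpowers s) = 2 := by
    rw [Nat.card_zpowers, hord]
  rw [hcard] at hn
  have hmem : ∀ x : G, x ∈ ({1, s} : Finset G) ↔ x ∈ Subgroup.zpowers s := by
    intro x
    simp only [Finset.mem_insert, Finset.mem_singleton]
    constructor
    · rintro (rfl | rfl)
      · exact Subgroup.one_mem _
      · exact Subgroup.mem_zpowers _
    · intro hx
      rw [mem_zpowers_iff_mem_range_orderOf, hord] at hx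
      obtain ⟨k, hk, rfl⟩ := Finset.mem_image.mp hx
      have hk2 : k < 2 := Finset.mem_range.mp hk
      interval_cases k
      · left; simp
      · right; simp
  have h1 := @Finset.sum_subtype G ℂ _ (· ∈ Subgroup.zpowers s) F ({1, s} : Finset G) hmem
    (fun x => (χ : G → ℂ) x⁻¹)
  rw [Finset.sum_pair (Ne.symm hs1)] at h1
  have hsi : s⁻¹ = s := inv_eq_of_mul_eq_one_left hs
  rw [inv_one, hsi] at h1
  rw [h1, hn]
  push_cast
  rfl

/-- The number of square roots of `u` is one when `C(u)` has odd order. -/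
theorem card_sqrt_eq_one [DecidableEq G] {u : G}
    (hodd : Odd (Nat.card (Subgroup.centralizer ({u} : Set G)))) :
    (Finset.univ.filter fun s : G => s * s = u).card = 1 := by
  obtain ⟨m, hm⟩ := hodd
  set C := Subgroup.centralizer ({u} : Set G) with hC
  have hpow : ∀ x ∈ C, x ^ (2 * m + 1) = 1 := by
    intro x hx
    have h1 := pow_card_eq_one' (G := C) (x := ⟨x, hx⟩)
    rw [hm] at h1
    exact congrArg Subtype.val h1
  have hu : u ∈ C := Subgroup.mem_centralizer_singleton_iff.mpr rfl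
  rw [Finset.card_eq_one]
  refine ⟨u ^ (m + 1), ?_⟩
  ext x
  simp only [Finset.mem_filter, Finset.mem_univ, true_and, Finset.mem_singleton]
  constructor
  · intro hx
    have hxC : x ∈ C := by
      rw [hC, Subgroup.mem_centralizer_singleton_iff, ← hx]
      group
    have h1 := hpow x hxC
    have h2 : x = x ^ (2 * m + 1) * x := by rw [h1, one_mul]
    rw [h2, ← pow_succ, show 2 * m + 1 + 1 = 2 * (m + 1) by ring, pow_mul, pow_two, hx]
  · rintro rfl
    rw [← pow_add, show m + 1 + (m + 1) = (2 * m + 1) + 1 by ring, pow_succ, hpow u hu, one_mul]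

/-- The conjugate of an irreducible character, as an irreducible character. -/
noncomputable def conjIrr (χ : IrrCharacter G) : IrrCharacter G :=
  ⟨fun g => conj ((χ : G → ℂ) g), isIrr_conj χ.2⟩

@[simp] theorem conjIrr_apply (χ : IrrCharacter G) (g : G) :
    (conjIrr χ : G → ℂ) g = conj ((χ : G → ℂ) g) := rfl

theorem conjIrr_conjIrr (χ : IrrCharacter G) : conjIrr (conjIrr χ) = χ := by
  apply Subtype.ext
  funext g
  simp

theorem conjIrr_ne_of_not_real (χ : IrrCharacter G) (h : ¬ ∀ g : G, ((χ : G → ℂ) g).im = 0) :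
    conjIrr χ ≠ χ := by
  intro h1
  apply h
  intro g
  have h2 := congrFun (congrArg Subtype.val h1) g
  have h3 : conj ((χ : G → ℂ) g) = (χ : G → ℂ) g := h2
  exact Complex.conj_eq_iff_im.mp h3

theorem exists_even_degree_of_inverted {p : ℕ} [Fact p.Prime] (hp2 : p ≠ 2) {s u : G}
    (hs : s * s = 1) (hs1 : s ≠ 1) (hu : u ≠ 1) (hup : ∃ k : ℕ, orderOf u = p ^ k)
    (hinv : s * u * s⁻¹ = u⁻¹) (hodd : Odd (Nat.card (Subgroup.centralizer ({u} : Set G)))) :
    ∃ χ : IrrCharacter G, Even (charDegree (χ : G → ℂ)) := by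
  classical
  by_contra hcon
  push Not at hcon
  have hodddeg : ∀ χ : IrrCharacter G, Odd (charDegree (χ : G → ℂ)) :=
    fun χ => Nat.not_even_iff_odd.mp (hcon χ)
  -- the value at `s` is an odd integer
  have hl : ∀ χ : IrrCharacter G, ∃ l : ℤ, (χ : G → ℂ) s = 2 * l + 1 := by
    intro χ
    obtain ⟨n, hn⟩ := irr_add_involution χ hs hs1
    obtain ⟨d, hd⟩ := hodddeg χ
    rw [map_one_eq_charDegree (IsIrrCharacter.isCharacter χ.2), hd] at hn
    refine ⟨(n : ℤ) - d - 1, ?_⟩
    push_cast at hn ⊢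
    linear_combination hn
  choose l hl using hl
  have hsreal : ∀ χ : IrrCharacter G, conj ((χ : G → ℂ) s) = (χ : G → ℂ) s := by
    intro χ
    rw [hl]
    have h2 : (2 * (l χ : ℂ) + 1) = ((2 * l χ + 1 : ℤ) : ℂ) := by push_cast; rfl
    rw [h2, map_intCast]
  -- `u` is real
  have hureal : ∀ χ : IrrCharacter G, conj ((χ : G → ℂ) u) = (χ : G → ℂ) u := by
    intro χ
    rw [← irr_map_inv, ← hinv]
    exact IsCharacter.map_isConj (IsIrrCharacter.isCharacter χ.2)
      (isConj_iff.mpr ⟨s, rfl⟩).symm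
  -- second orthogonality
  have hnot : ¬ IsConj u s := by
    intro h1
    apply hu
    have h2 : u * u = 1 := by
      obtain ⟨c, hc⟩ := isConj_iff.mp h1.symm
      rw [← hc]
      calc c * s * c⁻¹ * (c * s * c⁻¹) = c * (s * s) * c⁻¹ := by group
        _ = 1 := by rw [hs]; group
    obtain ⟨k, hk⟩ := hup
    by_contra h3
    have h4 : orderOf u = 2 := orderOf_eq_prime (by rw [pow_two, h2]) h3
    rw [h4] at hk
    have h5 : p ∣ 2 := by
      have hk0 : k ≠ 0 := by
        rintro rfl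
        simp at hk
      rw [hk]
      exact dvd_pow_self p hk0
    exact hp2 ((Nat.prime_dvd_prime_iff_eq Fact.out Nat.prime_two).mp h5)
  have h1 := second_orthogonality u s
  rw [if_neg hnot] at h1
  simp_rw [hsreal] at h1
  -- the indicator sum
  have h2 := sum_fsInd_mul (G := G) u
  rw [card_sqrt_eq_one hodd] at h2
  -- combine
  have hreal' : ∀ χ : IrrCharacter G, (∀ g : G, ((χ : G → ℂ) g).im = 0) →
      ∃ l' : ℤ, (χ : G → ℂ) s - fsInd (χ : G → ℂ) = 2 * l' := by
    intro χ hχ
    rcases fsInd_of_real χ hχ with h3 | h3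
    · exact ⟨l χ, by rw [h3, hl]; ring⟩
    · exact ⟨l χ + 1, by rw [h3, hl]; push_cast; ring⟩
  let nr : Finset (IrrCharacter G) := Finset.univ.filter fun χ => ¬ ∀ g : G, ((χ : G → ℂ) g).im = 0
  obtain ⟨t, ht⟩ := exists_sum_eq_two_mul conjIrr conjIrr_conjIrr nr (by
      intro χ hχ
      have hχ' : ¬ ∀ g : G, ((χ : G → ℂ) g).im = 0 := (Finset.mem_filter.mp hχ).2
      refine ⟨?_, conjIrr_ne_of_not_real χ hχ'⟩
      refine Finset.mem_filter.mpr ⟨Finset.mem_univ _, fun h3 => hχ' fun g => ?_⟩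
      have h4 := h3 g
      rw [conjIrr_apply] at h4
      simpa using h4) (fun χ => (χ : G → ℂ) u) (by
      intro χ _
      exact hureal χ)
  -- assemble an algebraic integer `ω` with `2 ω = -1`
  have hdecomp : ∀ χ : IrrCharacter G, ∃ a : ℤ, (χ : G → ℂ) s - fsInd (χ : G → ℂ) =
      2 * a + (if χ ∈ nr then 1 else 0) := by
    intro χ
    by_cases hχ : ∀ g : G, ((χ : G → ℂ) g).im = 0
    · obtain ⟨a, ha⟩ := hreal' χ hχ
      refine ⟨a, ?_⟩
      rw [if_neg, ha, add_zero]
      intro h3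
      exact (Finset.mem_filter.mp h3).2 hχ
    · refine ⟨l χ, ?_⟩
      have hm : χ ∈ nr := Finset.mem_filter.mpr ⟨Finset.mem_univ _, hχ⟩
      rw [if_pos hm, fsInd_of_not_real χ hχ, hl]
      ring
  choose a ha using hdecomp
  have h3 : ∑ χ : IrrCharacter G, ((χ : G → ℂ) s - fsInd (χ : G → ℂ)) * (χ : G → ℂ) u = -1 := by
    have h4 : ∑ χ : IrrCharacter G, ((χ : G → ℂ) s - fsInd (χ : G → ℂ)) * (χ : G → ℂ) u =
        ∑ χ : IrrCharacter G, (χ : G → ℂ) u * (χ : G → ℂ) s -
          ∑ χ : IrrCharacter G, fsInd (χ : G → ℂ) * (χ : G → ℂ) u := by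
      rw [← Finset.sum_sub_distrib]
      refine Finset.sum_congr rfl fun χ _ => ?_
      ring
    rw [h4, h1, h2]
    simp
  simp_rw [ha] at h3
  have h4 : ∑ χ : IrrCharacter G, (2 * (a χ : ℂ) + (if χ ∈ nr then 1 else 0)) * (χ : G → ℂ) u =
      2 * (∑ χ : IrrCharacter G, (a χ : ℂ) * (χ : G → ℂ) u + ∑ χ ∈ t, (χ : G → ℂ) u) := by
    rw [mul_add, ← ht, Finset.mul_sum]
    have h5 : ∑ χ ∈ nr, (χ : G → ℂ) u =
        ∑ χ : IrrCharacter G, (if χ ∈ nr then 1 else 0) * (χ : G → ℂ) u := by
      simp_rw [ite_mul, one_mul, zero_mul]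
      rw [Finset.sum_ite_mem]
      simp
    rw [h5, ← Finset.sum_add_distrib]
    refine Finset.sum_congr rfl fun χ _ => ?_
    ring
  rw [h4] at h3
  have hint : IsIntegral ℤ ((1 : ℕ) / (2 : ℕ) : ℂ) := by
    have h5 : ((1 : ℕ) / (2 : ℕ) : ℂ) = -(∑ χ : IrrCharacter G, (a χ : ℂ) * (χ : G → ℂ) u + ∑ χ ∈ t, (χ : G → ℂ) u) := by
      push_cast
      linear_combination (1 / 2 : ℂ) * h3
    rw [h5]
    refine IsIntegral.neg (IsIntegral.add (IsIntegral.sum _ fun χ _ => IsIntegral.mul ?_ ?_)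
      (IsIntegral.sum _ fun χ _ => ?_))
    · simpa using isIntegral_algebraMap (R := ℤ) (A := ℂ) (x := a χ)
    · exact IsCharacter.isIntegral' (IsIrrCharacter.isCharacter χ.2) u
    · exact IsCharacter.isIntegral' (IsIrrCharacter.isCharacter χ.2) u
  have h5 := nat_dvd_of_isIntegral_div (by norm_num) hint
  omega

end OddDeg

end Cfsg.Agent.Lib.Degree
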