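import Cfsg.Agent.Lib.Degree.FSMore
import Cfsg.Agent.Lib.Char.Clifford2
import Cfsg.Agent.Lib.Char.OddOrder
import Cfsg.Agent.Lib.CharExtra.Ito

/-!
# Characters over a real character of a normal subgroup of odd index.
-/

set_option autoImplicit false
set_option linter.unusedSectionVars false

open scoped ComplexConjugate
open Module

namespace Cfsg.Agent.Lib.Degree

open Cfsg (classInner IsCharacter IsIrrCharacter IrrCharacter IsClassFunction charDegree indFun
  extendByZero)
open Cfsg.Agent.Lib.Char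
open Cfsg.Agent.Lib.CharExtra

universe u v

section OddQuot

variable {G : Type u} [Group G] [Finite G] (N : Subgroup G) [hN : N.Normal]

/-- In an odd order group, an element conjugate to its inverse is trivial. -/
theorem eq_one_of_conj_inv_of_odd {Q : Type u} [Group Q] [Finite Q] (hodd : Odd (Nat.card Q))
    {a x : Q} (h : x * a * x⁻¹ = a⁻¹) : a = 1 := by
  have hcop : (Nat.card Q).Coprime 2 := by
    rcases hodd with ⟨k, hk⟩
    rw [hk]; simp
  obtain ⟨m, hm⟩ : ∃ m : ℕ, (x ^ 2) ^ m = x := exists_pow_eq_self_of_coprime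
    (Nat.Coprime.coprime_dvd_right (orderOf_dvd_natCard x) hcop.symm)
  have h2 : x ^ 2 * a * (x ^ 2)⁻¹ = a := by
    have h3 : x * a⁻¹ * x⁻¹ = a := by
      have h4 : x * a⁻¹ * x⁻¹ = (x * a * x⁻¹)⁻¹ := by group
      rw [h4, h, inv_inv]
    calc x ^ 2 * a * (x ^ 2)⁻¹ = x * (x * a * x⁻¹) * x⁻¹ := by
          simp only [pow_two, mul_inv_rev, mul_assoc]
      _ = a := by rw [h, h3]
  have hcomm : Commute (x ^ 2) a := by
    show x ^ 2 * a = a * x ^ 2
    calc x ^ 2 * a = (x ^ 2 * a * (x ^ 2)⁻¹) * x ^ 2 := by group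
      _ = a * x ^ 2 := by rw [h2]
  have hxa : Commute x a := by
    rw [← hm]
    exact hcomm.pow_left m
  have h5 : a = a⁻¹ := by
    rw [← h, hxa.eq]
    group
  have h6 : a ^ 2 = 1 := by
    rw [pow_two]
    nth_rewrite 1 [h5]
    group
  by_contra ha
  have h7 := orderOf_dvd_of_pow_eq_one h6
  have h8 : orderOf a ∣ Nat.card Q := orderOf_dvd_natCard a
  have h9 : orderOf a = 1 := Nat.eq_one_of_dvd_coprimes hcop h8 h7
  exact ha (orderOf_eq_one_iff.mp h9)

theorem card_quot_odd (hodd : Odd N.index) : Odd (Nat.card (G ⧸ N)) := hodd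

/-- No element outside a normal subgroup of odd index is conjugate to its inverse modulo it. -/
theorem not_isConj_mul_inv (hodd : Odd N.index) {a : G} (ha : a ∉ N) {n : G} (hn : n ∈ N) :
    ¬ IsConj (n * a) a⁻¹ := by
  intro h
  obtain ⟨x, hx⟩ := isConj_iff.mp h
  apply ha
  rw [← QuotientGroup.eq_one_iff]
  refine eq_one_of_conj_inv_of_odd (Q := G ⧸ N) hodd (x := (x : G ⧸ N)) ?_
  have h1 := congrArg (fun g : G => (g : G ⧸ N)) hx
  simp only [QuotientGroup.mk_mul, QuotientGroup.mk_inv] at h1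
  have h2 : ((n : G) : G ⧸ N) = 1 := (QuotientGroup.eq_one_iff n).mpr hn
  rwa [h2, one_mul] at h1

/-- Squares stay outside a normal subgroup of odd index. -/
theorem mem_of_mul_self_mem (hodd : Odd N.index) {g : G} (hg : g * g ∈ N) : g ∈ N := by
  have hcop : (Nat.card (G ⧸ N)).Coprime 2 := by
    rcases hodd with ⟨k, hk⟩
    show N.index.Coprime 2
    rw [hk]; simp
  have h1 : ((g : G) : G ⧸ N) ^ 2 = 1 := by
    rw [pow_two, ← QuotientGroup.mk_mul]
    exact (QuotientGroup.eq_one_iff _).mpr hg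
  have h2 := orderOf_dvd_of_pow_eq_one h1
  have h3 : orderOf ((g : G) : G ⧸ N) ∣ Nat.card (G ⧸ N) := orderOf_dvd_natCard _
  have h4 := Nat.eq_one_of_dvd_coprimes hcop h3 h2
  exact (QuotientGroup.eq_one_iff _).mp (orderOf_eq_one_iff.mp h4)

end OddQuot

section Ind

variable {G : Type u} [Group G] [Fintype G] (N : Subgroup G) [hN : N.Normal] [Fintype N]

/-- The indicator of an induced function, when the subgroup is normal of odd index. -/
theorem fsInd_indFun_of_odd (hodd : Odd N.index) (θ : N → ℂ) :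
    fsInd (indFun N θ) = fsInd θ := by
  classical
  simp only [fsInd, indFun_apply]
  rw [← Finset.mul_sum, Finset.sum_comm]
  have h1 : ∀ y : G, ∑ g : G, extendByZero N θ (y⁻¹ * (g * g) * y) =
      ∑ g : G, extendByZero N θ (g * g) := by
    intro y
    rw [← Equiv.sum_comp (MulAut.conj y).toEquiv]
    refine Finset.sum_congr rfl fun g _ => ?_
    simp only [MulEquiv.toEquiv_eq_coe, EquivLike.coe_coe, MulAut.conj_apply]
    congr 1
    group
  simp only [h1, Finset.sum_const, Finset.card_univ, nsmul_eq_mul]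
  have h2 : ∑ g : G, extendByZero N θ (g * g) = ∑ n : N, θ (n * n) := by
    rw [← Finset.sum_filter_add_sum_filter_not Finset.univ (fun g => g ∈ N)]
    have h3 : ∑ g ∈ Finset.univ.filter (fun g => g ∉ N), extendByZero N θ (g * g) = 0 := by
      refine Finset.sum_eq_zero fun g hg => ?_
      have hg' : g ∉ N := (Finset.mem_filter.mp hg).2
      exact extendByZero_of_not_mem _ _ (fun h => hg' (mem_of_mul_self_mem N hodd h))
    rw [h3, add_zero]
    have h4 : ∑ g ∈ Finset.univ.filter (fun g => g ∈ N), extendByZero N θ (g * g) =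
        ∑ n : N, extendByZero N θ ((n : G) * n) := Finset.sum_subtype _ (fun x => by simp) _
    rw [h4]
    refine Finset.sum_congr rfl fun n _ => ?_
    have := extendByZero_coe N θ (n * n)
    simpa using this
  rw [h2, Fintype.card_eq_nat_card]
  have h5 := card_ne_zero_complex G
  have h6 := card_subgroup_ne_zero N
  field_simp

/-- Unique strongly real character over a strongly real character of a normal subgroup of odd
index. -/
theorem exists_unique_fsInd_over (hodd : Odd N.index) (φ : IrrCharacter N)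
    (hφ : fsInd (φ : N → ℂ) = 1) :
    ∃! χ : IrrCharacter G, fsInd (χ : G → ℂ) = 1 ∧
      classInner (fun n : N => (χ : G → ℂ) n) (φ : N → ℂ) ≠ 0 := by
  classical
  have hφreal : ∀ n, ((φ : N → ℂ) n).im = 0 :=
    real_of_fsInd_ne_zero φ (by rw [hφ]; exact one_ne_zero)
  have hφc := IsIrrCharacter.isCharacter φ.2
  have hcl : ∀ χ : IrrCharacter G, IsClassFunction G (χ : G → ℂ) := fun χ =>
    IsCharacter.isClassFunction (IsIrrCharacter.isCharacter χ.2)
  choose m hm using fun χ : IrrCharacter G => classInner_isCharacter_nat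
    (IsCharacter.restrict N (IsIrrCharacter.isCharacter χ.2)) hφc
  set O := cliffordOrbit hN (φ : N → ℂ) with hO
  set Φ : N → ℂ := fun n => ∑ φ' ∈ O, (φ' : N → ℂ) n with hΦ
  have hOmem : φ ∈ O := (mem_cliffordOrbit hN _ φ).mpr ⟨1, (conjFn_one hN _).symm⟩
  have hOreal : ∀ φ' ∈ O, ∀ n, conj ((φ' : N → ℂ) n) = (φ' : N → ℂ) n := by
    intro φ' hφ' n
    obtain ⟨g, hg⟩ := (mem_cliffordOrbit hN _ φ').mp hφ'
    rw [hg]
    exact Complex.conj_eq_iff_im.mpr (hφreal _)
  have hOinner : ∀ χ : IrrCharacter G, ∀ φ' ∈ O,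
      classInner (fun n : N => (χ : G → ℂ) n) (φ' : N → ℂ) = m χ := by
    intro χ φ' hφ'
    obtain ⟨g, hg⟩ := (mem_cliffordOrbit hN _ φ').mp hφ'
    rw [hg, classInner_restrict_conjFn hN g (hcl χ)]
    exact hm χ
  have hres : ∀ χ : IrrCharacter G, m χ ≠ 0 → ∀ n : N, (χ : G → ℂ) n = m χ * Φ n := by
    intro χ hχ n
    have h1 := clifford_restrict hN χ.2 φ.2 (by rw [hm]; exact_mod_cast hχ)
    have h2 := congrFun h1 n
    rw [hm] at h2
    simpa [hΦ] using h2
  -- a character over `φ`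
  obtain ⟨χ₁, hχ₁, hχ₁in⟩ := exists_irr_over N φ.2
  have hm₁ : m ⟨χ₁, hχ₁⟩ ≠ 0 := by
    intro h0
    apply hχ₁in
    have := hm ⟨χ₁, hχ₁⟩
    rw [h0] at this
    simpa using this
  have hm₁C : ((m ⟨χ₁, hχ₁⟩ : ℕ) : ℂ) ≠ 0 := by exact_mod_cast hm₁
  -- `Φ` is `G`-invariant
  have hΦinv : ∀ (x : G) (n : N), Φ ⟨x * n * x⁻¹, hN.conj_mem n n.2 x⟩ = Φ n := by
    intro x n
    have h1 := hres ⟨χ₁, hχ₁⟩ hm₁ ⟨x * n * x⁻¹, hN.conj_mem n n.2 x⟩
    have h2 := hres ⟨χ₁, hχ₁⟩ hm₁ n
    have h3 : χ₁ (x * n * x⁻¹) = χ₁ n := hcl ⟨χ₁, hχ₁⟩ n x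
    simp only at h1 h2
    rw [h3, h2] at h1
    exact (mul_left_cancel₀ hm₁C h1).symm
  set f : G → ℂ := extendByZero N Φ with hf
  have hfc : IsClassFunction G f := by
    intro g x
    by_cases hg : g ∈ N
    · rw [hf, extendByZero_of_mem _ _ hg, extendByZero_of_mem _ _ (hN.conj_mem g hg x)]
      exact hΦinv x ⟨g, hg⟩
    · have hg' : x * g * x⁻¹ ∉ N := by
        intro h
        apply hg
        have := hN.conj_mem _ h x⁻¹
        simpa [mul_assoc] using this
      rw [hf, extendByZero_of_not_mem _ _ hg, extendByZero_of_not_mem _ _ hg']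
  -- the scalar
  have hcard : (Nat.card N : ℂ) ≠ 0 := card_subgroup_ne_zero N
  have hsumΦ : ∀ χ : IrrCharacter G, ∑ n : N, Φ n * (χ : G → ℂ) n =
      (O.card : ℂ) * (Nat.card N : ℂ) * m χ := by
    intro χ
    have h1 : ∀ φ' ∈ O, ∑ n : N, (φ' : N → ℂ) n * (χ : G → ℂ) n = (Nat.card N : ℂ) * m χ := by
      intro φ' hφ'
      have h2 := hOinner χ φ' hφ'
      rw [classInner_def] at h2
      rw [← h2]
      field_simp
      refine Finset.sum_congr rfl fun n _ => ?_
      rw [hOreal φ' hφ' n, mul_comm]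
    simp only [hΦ, Finset.sum_mul]
    rw [Finset.sum_comm, Finset.sum_congr rfl h1, Finset.sum_const, nsmul_eq_mul]
    ring
  have hΦ1 : Φ 1 = (O.card : ℂ) * (φ : N → ℂ) 1 := by
    simp only [hΦ]
    have h1 : ∀ φ' ∈ O, (φ' : N → ℂ) 1 = (φ : N → ℂ) 1 := by
      intro φ' hφ'
      obtain ⟨g, hg⟩ := (mem_cliffordOrbit hN _ φ').mp hφ'
      rw [hg, conjFn_map_one]
    rw [Finset.sum_congr rfl h1, Finset.sum_const, nsmul_eq_mul]
  have hOpos : (O.card : ℂ) ≠ 0 := by
    have : O.card ≠ 0 := Finset.card_ne_zero.mpr ⟨φ, hOmem⟩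
    exact_mod_cast this
  have hφ1 : (φ : N → ℂ) 1 ≠ 0 := map_one_ne_zero_of_irr φ.2
  set D : ℂ := (Nat.card N : ℂ) / (φ : N → ℂ) 1 with hD
  have hD0 : D ≠ 0 := div_ne_zero hcard hφ1
  have hscal : ∀ (χ : IrrCharacter G) (w : G), ∑ n : N, Φ n * (χ : G → ℂ) (w * n) =
      if m χ ≠ 0 then D * (χ : G → ℂ) w else 0 := by
    intro χ w
    have h1 := irr_sum_class_mul χ f hfc w
    rw [hf, sum_extendByZero_mul, sum_extendByZero_mul, hsumΦ] at h1
    rw [h1]
    split_ifs with hχ
    · have h2 := hres χ hχ 1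
      have h3 : (χ : G → ℂ) 1 = m χ * Φ 1 := by simpa using h2
      rw [h3, hΦ1, hD]
      have hmC : ((m χ : ℕ) : ℂ) ≠ 0 := by exact_mod_cast hχ
      field_simp
    · push Not at hχ
      simp [hχ]
  set S : Finset (IrrCharacter G) := Finset.univ.filter (fun χ => m χ ≠ 0) with hS
  -- the sum of squares outside `N` vanishes
  have hoff : ∀ a : G, a ∉ N → ∑ χ ∈ S, (χ : G → ℂ) a ^ 2 = 0 := by
    intro a ha
    have h1 : D * ∑ χ ∈ S, (χ : G → ℂ) a ^ 2 =
        ∑ n : N, Φ n * ∑ χ : IrrCharacter G, (χ : G → ℂ) (a * n) * conj ((χ : G → ℂ) a⁻¹) := by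
      simp only [Finset.mul_sum]
      rw [Finset.sum_comm]
      have h2 : ∀ χ : IrrCharacter G, ∑ n : N, Φ n * ((χ : G → ℂ) (a * n) * conj ((χ : G → ℂ) a⁻¹)) =
          (if m χ ≠ 0 then D * (χ : G → ℂ) a else 0) * (χ : G → ℂ) a := by
        intro χ
        have h3 : conj ((χ : G → ℂ) a⁻¹) = (χ : G → ℂ) a := by
          have h4 := IsCharacter.map_inv' (IsIrrCharacter.isCharacter χ.2) a
          rw [h4, Complex.conj_conj]
        rw [← hscal χ a, Finset.sum_mul]
        refine Finset.sum_congr rfl fun n _ => ?_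
        rw [h3, mul_assoc]
      simp only [h2]
      rw [hS, Finset.sum_filter]
      refine Finset.sum_congr rfl fun χ _ => ?_
      split_ifs
      · ring
      · ring
    have h5 : ∀ n : N, ∑ χ : IrrCharacter G, (χ : G → ℂ) (a * n) * conj ((χ : G → ℂ) a⁻¹) = 0 := by
      intro n
      rw [second_orthogonality', if_neg]
      have h6 : a * (n : G) = (a * n * a⁻¹) * a := by group
      rw [h6]
      exact not_isConj_mul_inv N hodd ha (hN.conj_mem _ n.2 a)
    simp only [h5, mul_zero, Finset.sum_const_zero] at h1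
    exact (mul_eq_zero.mp h1).resolve_left hD0
  -- the sum of squares on `N`
  have hon : ∀ n : N, ∑ χ ∈ S, (χ : G → ℂ) n ^ 2 = (∑ χ ∈ S, (m χ : ℂ) ^ 2) * Φ n ^ 2 := by
    intro n
    rw [Finset.sum_mul]
    refine Finset.sum_congr rfl fun χ hχ => ?_
    rw [hres χ (Finset.mem_filter.mp hχ).2 n, mul_pow]
  have hΦfun : Φ = ∑ φ' ∈ O, (φ' : N → ℂ) := by
    funext n
    simp [hΦ]
  have hΦsq : ∑ n : N, Φ n ^ 2 = (Nat.card N : ℂ) * O.card := by
    have h1 : classInner Φ Φ = O.card := by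
      rw [hΦfun, classInner_sum_left]
      have h2 : ∀ φ' ∈ O, classInner (φ' : N → ℂ) (∑ φ'' ∈ O, (φ'' : N → ℂ)) = 1 := by
        intro φ' hφ'
        rw [classInner_sum_right, Finset.sum_eq_single φ']
        · exact classInner_irr_self φ'.2
        · intro b _ hb
          exact classInner_irr_of_ne φ'.2 b.2 (fun h => hb (Subtype.ext h).symm)
        · intro h
          exact absurd hφ' h
      rw [Finset.sum_congr rfl h2]
      simp
    rw [classInner_def] at h1
    have h3 : ∑ n : N, Φ n * conj (Φ n) = ∑ n : N, Φ n ^ 2 := by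
      refine Finset.sum_congr rfl fun n _ => ?_
      have h4 : conj (Φ n) = Φ n := by
        simp only [hΦ, map_sum]
        exact Finset.sum_congr rfl fun φ' hφ' => hOreal φ' hφ' n
      rw [h4, pow_two]
    rw [h3] at h1
    rw [← h1]
    field_simp
  -- the sum of the squares of the multiplicities
  have hind : ∀ χ : IrrCharacter G, classInner (indFun N (φ : N → ℂ)) (χ : G → ℂ) = m χ := by
    intro χ
    rw [frobenius_reciprocity N _ _ (hcl χ), ← conj_classInner, hm χ]
    simp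
  have hindcl : IsClassFunction G (indFun N (φ : N → ℂ)) := indFun_isClassFunction N _
  have hm2 : ∑ χ ∈ S, (m χ : ℂ) ^ 2 = (Nat.card N : ℂ)⁻¹ * (Nat.card (inertia hN (φ : N → ℂ)) : ℂ) := by
    rw [← classInner_indFun_self hN φ.2, classInner_eq_sum _ _ hindcl hindcl, hS, Finset.sum_filter]
    refine Finset.sum_congr rfl fun χ _ => ?_
    rw [hind χ]
    split_ifs with h
    · simp [pow_two]
    · push Not at h
      simp [h]
  have htotal : ∑ g : G, ∑ χ ∈ S, (χ : G → ℂ) g ^ 2 = (Nat.card G : ℂ) := by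
    rw [← Finset.sum_filter_add_sum_filter_not Finset.univ (fun g => g ∈ N)]
    have h1 : ∑ g ∈ Finset.univ.filter (fun g => g ∉ N), ∑ χ ∈ S, (χ : G → ℂ) g ^ 2 = 0 :=
      Finset.sum_eq_zero fun g hg => hoff g (Finset.mem_filter.mp hg).2
    rw [h1, add_zero]
    have h2 : ∑ g ∈ Finset.univ.filter (fun g => g ∈ N), ∑ χ ∈ S, (χ : G → ℂ) g ^ 2 =
        ∑ n : N, ∑ χ ∈ S, (χ : G → ℂ) n ^ 2 := Finset.sum_subtype _ (fun x => by simp) _
    rw [h2, Finset.sum_congr rfl (fun n _ => hon n), ← Finset.mul_sum, hΦsq, hm2]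
    have h3 : (O.card : ℂ) = ((inertia hN (φ : N → ℂ)).index : ℂ) := by
      exact_mod_cast card_cliffordOrbit hN φ.2
    rw [h3]
    have h4 : (Nat.card G : ℂ) = (inertia hN (φ : N → ℂ)).index * (Nat.card (inertia hN (φ : N → ℂ))) := by
      exact_mod_cast (Subgroup.index_mul_card _).symm
    rw [h4]
    field_simp
  -- real characters
  let isReal : IrrCharacter G → Prop := fun χ => (χ : G → ℂ) = fun g => conj ((χ : G → ℂ) g)
  have hsq : ∀ χ : IrrCharacter G, ∑ g : G, (χ : G → ℂ) g ^ 2 =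
      (Nat.card G : ℂ) * if isReal χ then 1 else 0 := by
    intro χ
    have h1 := classInner_irr χ.2 (isIrr_conj χ.2)
    rw [classInner_def] at h1
    have h2 : ∑ g : G, (χ : G → ℂ) g * conj (conj ((χ : G → ℂ) g)) = ∑ g : G, (χ : G → ℂ) g ^ 2 := by
      refine Finset.sum_congr rfl fun g _ => ?_
      rw [Complex.conj_conj, pow_two]
    rw [h2] at h1
    have h3 := card_ne_zero_complex G
    rw [inv_mul_eq_iff_eq_mul₀ h3] at h1
    exact h1
  set R : Finset (IrrCharacter G) := S.filter isReal with hR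
  have hRcard : R.card = 1 := by
    have h0 : (R.card : ℂ) = ∑ χ ∈ S, if isReal χ then (1 : ℂ) else 0 := by
      rw [hR, Finset.card_filter]
      push_cast
      rfl
    have h1 : (Nat.card G : ℂ) * (R.card : ℂ) = Nat.card G := by
      conv_rhs => rw [← htotal, Finset.sum_comm, Finset.sum_congr rfl (fun χ _ => hsq χ)]
      rw [← Finset.mul_sum, h0]
    have h3 := card_ne_zero_complex G
    have h2 : (R.card : ℂ) = 1 := mul_left_cancel₀ h3 (by rw [h1, mul_one])
    exact_mod_cast h2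
  obtain ⟨χ₀, hχ₀⟩ := Finset.card_eq_one.mp hRcard
  have hχ₀R : χ₀ ∈ R := by rw [hχ₀]; exact Finset.mem_singleton_self _
  have hχ₀S : m χ₀ ≠ 0 := (Finset.mem_filter.mp (Finset.mem_filter.mp hχ₀R).1).2
  have hχ₀r : isReal χ₀ := (Finset.mem_filter.mp hχ₀R).2
  have hχ₀im : ∀ g, ((χ₀ : G → ℂ) g).im = 0 := by
    intro g
    have h1 := congrFun hχ₀r g
    exact Complex.conj_eq_iff_im.mp h1.symm
  have hsing : ∀ χ : IrrCharacter G, m χ ≠ 0 → (∀ g, ((χ : G → ℂ) g).im = 0) → χ = χ₀ := by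
    intro χ h1 h2
    have h3 : χ ∈ R := by
      refine Finset.mem_filter.mpr ⟨Finset.mem_filter.mpr ⟨Finset.mem_univ _, h1⟩, ?_⟩
      funext g
      exact (Complex.conj_eq_iff_im.mpr (h2 g)).symm
    rw [hχ₀] at h3
    exact Finset.mem_singleton.mp h3
  -- the indicator
  have hν : (m χ₀ : ℂ) * fsInd (χ₀ : G → ℂ) = 1 := by
    have h1 := fsInd_eq_sum (indFun N (φ : N → ℂ)) hindcl
    rw [fsInd_indFun_of_odd N hodd, hφ, Finset.sum_eq_single χ₀] at h1
    · rw [hind χ₀] at h1
      exact h1.symm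
    · intro χ _ hχ
      rw [hind χ]
      by_cases h0 : m χ = 0
      · simp [h0]
      · by_cases hr : ∀ g, ((χ : G → ℂ) g).im = 0
        · exact absurd (hsing χ h0 hr) hχ
        · rw [fsInd_of_not_real χ hr, mul_zero]
    · intro h
      exact absurd (Finset.mem_univ _) h
  have hν1 : fsInd (χ₀ : G → ℂ) = 1 := by
    rcases fsInd_of_real χ₀ hχ₀im with h1 | h1
    · exact h1
    · exfalso
      rw [h1] at hν
      have h2 : -(m χ₀ : ℝ) = 1 := by
        have := congrArg Complex.re hν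
        simpa using this
      have h3 : (0 : ℝ) ≤ (m χ₀ : ℝ) := by positivity
      linarith
  refine ⟨χ₀, ⟨hν1, ?_⟩, ?_⟩
  · rw [hm χ₀]
    exact_mod_cast hχ₀S
  · rintro χ ⟨h1, h2⟩
    apply hsing χ
    · intro h0
      apply h2
      rw [hm χ, h0]
      simp
    · exact real_of_fsInd_ne_zero χ (by rw [h1]; exact one_ne_zero)

end Ind

end Cfsg.Agent.Lib.Degree
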