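import Mathlib
import Cfsg.Agent.Lib.KS2.SLValues
import Cfsg.Agent.Lib.Degree.Inflate
import Cfsg.Prelude.Def_DegreeGraph

/-!
# Character degrees of `SL₂(F)` and `PSL₂(F)`

The irreducible characters of `PSL₂(F)`, read off from helper15's table of `SL₂(F)`:
all degrees lie in the list of `SL₂(F)`, and the three degrees `q`, `q + 1`, `q - 1` occur
as soon as `q ∉ {2, 3, 5}`.
-/

set_option autoImplicit false
set_option linter.unusedSimpArgs false
set_option linter.unusedVariables false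
set_option linter.unusedSectionVars false

namespace Cfsg.Agent.Lib.Degree.PSL2Deg

open Matrix Cfsg Cfsg.Agent.Lib.Char Cfsg.Agent.Lib.KS2 Cfsg.Agent.Lib.KS2.RK
open Cfsg.Agent.Lib.Degree (KerContains inflate inflate_kerContains inflate_injective exists_inflate)
open scoped MatrixGroups

variable {F : Type*} [Field F] [Fintype F]

local notation "q" => (Fintype.card F)

/-- Characters of a commutative group trivial on `Z` not of order `≤ 2` at `y` when `y² ∉ Z`. -/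
lemma exists_char_sq {A : Type*} [Group A] [Finite A] (hc : ∀ a b : A, a * b = b * a) (Z : Subgroup A)
    (y : A) (hy : y ^ 2 ∉ Z) : ∃ l : A →* ℂˣ, (∀ z ∈ Z, l z = 1) ∧ l y ^ 2 ≠ 1 := by
  classical
  letI : CommGroup A := { (inferInstance : Group A) with mul_comm := hc }
  haveI : Z.Normal := inferInstance
  have hne : ((y ^ 2 : A) : A ⧸ Z) ≠ 1 := by
    intro h
    exact hy ((QuotientGroup.eq_one_iff _).mp h)
  haveI : HasEnoughRootsOfUnity ℂ (Monoid.exponent (A ⧸ Z)) := inferInstance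
  obtain ⟨φ, hφ⟩ := CommGroup.exists_apply_ne_one_of_hasEnoughRootsOfUnity (A ⧸ Z) ℂ hne
  refine ⟨φ.comp (QuotientGroup.mk' Z), ?_, ?_⟩
  · intro z hz
    have : ((z : A) : A ⧸ Z) = 1 := (QuotientGroup.eq_one_iff _).mpr hz
    simp [this]
  · intro h
    apply hφ
    have : ((y ^ 2 : A) : A ⧸ Z) = ((y : A) : A ⧸ Z) ^ 2 := by rfl
    rw [this, map_pow]
    simpa using h

lemma sg_eq_inv (t : (slCx F).D) : (slCx F).sg t = t⁻¹ := by
  apply eq_inv_of_mul_eq_one_left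
  apply (slCx F).D_ext
  · have ha := SL2.det_rel (t.1 : SL(2, F))
    have h1 : ((t.1 : SL(2, F)) : Matrix (Fin 2) (Fin 2) F) 0 1 = 0 := t.2.1
    rw [h1] at ha
    show (slCx F).e (((slCx F).sg t : SL(2, F)) * (t : SL(2, F))) 0 0 = (slCx F).e (1 : SL(2, F)) 0 0
    rw [GLike.e_mul00, (slCx F).e_one00, GLike.sg00]
    have h2 : (slCx F).e (((slCx F).sg t : (slCx F).D) : SL(2, F)) 0 1 = 0 := ((slCx F).sg t).2.1
    rw [h2]
    show ((t.1 : SL(2, F)) : Matrix (Fin 2) (Fin 2) F) 1 1 * ((t.1 : SL(2, F)) : Matrix (Fin 2) (Fin 2) F) 0 0 + 0 * _ = 1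
    linear_combination ha
  · have ha := SL2.det_rel (t.1 : SL(2, F))
    have h1 : ((t.1 : SL(2, F)) : Matrix (Fin 2) (Fin 2) F) 0 1 = 0 := t.2.1
    rw [h1] at ha
    show (slCx F).e (((slCx F).sg t : SL(2, F)) * (t : SL(2, F))) 1 1 = (slCx F).e (1 : SL(2, F)) 1 1
    rw [GLike.e_mul11, (slCx F).e_one11, GLike.sg11]
    have h2 : (slCx F).e (((slCx F).sg t : (slCx F).D) : SL(2, F)) 1 0 = 0 := ((slCx F).sg t).2.2
    rw [h2]
    show 0 * _ + ((t.1 : SL(2, F)) : Matrix (Fin 2) (Fin 2) F) 0 0 * ((t.1 : SL(2, F)) : Matrix (Fin 2) (Fin 2) F) 1 1 = 1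
    linear_combination ha

lemma exists_D_pow_four_ne (h2 : q ≠ 2) (h3 : q ≠ 3) (h5 : q ≠ 5) : ∃ y : (slCx F).D, y ^ 4 ≠ 1 := by
  classical
  obtain ⟨g, hg⟩ := IsCyclic.exists_generator (α := Fˣ)
  have hord : orderOf g = q - 1 := by
    rw [orderOf_eq_card_of_forall_mem_zpowers hg, Nat.card_eq_fintype_card, Fintype.card_units]
  refine ⟨slDiag g, ?_⟩
  intro h
  have h4 : g ^ 4 = 1 := by
    have h5 : (slLike F).ent0 (slDiag g) = g := by ext; rfl
    have h0 : slDiag g ^ 4 = 1 := h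
    have h6 : (slLike F).ent0 (slDiag g) ^ 4 = 1 := by rw [← map_pow, h0, map_one]
    rwa [h5] at h6
  have h6 := orderOf_dvd_of_pow_eq_one h4
  rw [hord] at h6
  have hq : 2 ≤ q := Fintype.one_lt_card
  have h7 : q - 1 ≤ 4 := Nat.le_of_dvd (by norm_num) h6
  have h8 : q = 4 → False := by
    intro h9
    rw [h9] at h6
    norm_num at h6
  have h9 : q ≠ 4 := h8
  omega

lemma isCyclic_T : IsCyclic (slCx F).T :=
  SL2.torus_isCyclic 1 (slCx F).ν (slCx F).hν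

lemma exists_T_pow_four_ne (hq : 4 ≤ q) : ∃ y : (slCx F).T, y ^ 4 ≠ 1 := by
  classical
  haveI := isCyclic_T (F := F)
  obtain ⟨g, hg⟩ := IsCyclic.exists_generator (α := (slCx F).T)
  have hord : orderOf g = 1 * (q + 1) := by
    rw [orderOf_eq_card_of_forall_mem_zpowers hg]
    exact (slCx F).hT
  refine ⟨g, fun h => ?_⟩
  have h6 := orderOf_dvd_of_pow_eq_one h
  rw [hord] at h6
  have := Nat.le_of_dvd (by norm_num) h6
  omega

lemma center_le_Z : Subgroup.center SL(2, F) ≤ (slCx F).Z := by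
  intro z hz
  obtain ⟨r, -, hr⟩ := Matrix.SpecialLinearGroup.mem_center_iff.mp hz
  refine ⟨?_, ?_, ?_⟩
  · show ((z : SL(2, F)) : Matrix (Fin 2) (Fin 2) F) 0 1 = 0
    rw [← hr]; simp [Matrix.scalar_apply]
  · show ((z : SL(2, F)) : Matrix (Fin 2) (Fin 2) F) 1 0 = 0
    rw [← hr]; simp [Matrix.scalar_apply]
  · show ((z : SL(2, F)) : Matrix (Fin 2) (Fin 2) F) 0 0 = ((z : SL(2, F)) : Matrix (Fin 2) (Fin 2) F) 1 1
    rw [← hr]; simp [Matrix.scalar_apply]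

variable [Fintype SL(2, F)]

/-- The `E2` characters contain the centre in the kernel. -/
lemma E2_ker (a : (slCx F).Lin) (ha : a.1 = 1) :
    KerContains (Subgroup.center SL(2, F)) ((slCx F).E2 a : SL(2, F) → ℂ) := by
  intro z hz
  have hz' := center_le_Z hz
  show (slCx F).St a.1 z = (slCx F).St a.1 1
  rw [ha, Cx.St_apply, Cx.St_apply]
  have h1 := (slCx F).R_zz ((slCx F).νD 1) ⟨z, hz'⟩
  have h2 := (slCx F).R_one ((slCx F).νD (1 : SL(2, F) →* ℂˣ))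
  have h3 : (slCx F).νD (1 : SL(2, F) →* ℂˣ) = 1 := νD_one
  rw [h3] at h1 h2 ⊢
  simp only at h1
  rw [h1, h2]
  simp

/-- A character of `D` trivial on scalars gives an `E3` with centre in the kernel. -/
lemma exists_E3_ker (h2 : q ≠ 2) (h3 : q ≠ 3) (h5 : q ≠ 5) :
    ∃ a : (slCx F).P, KerContains (Subgroup.center SL(2, F)) ((slCx F).E3 a : SL(2, F) → ℂ) := by
  classical
  obtain ⟨y, hy⟩ := exists_D_pow_four_ne (F := F) h2 h3 h5
  have hcomm : ∀ a b : (slCx F).D, a * b = b * a := fun a b => ((slCx F).commD).mul_comm a b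
  have hyZ : y ^ 2 ∉ (slCx F).Z.subgroupOf (slCx F).D := by
    intro h
    apply hy
    have h1 := ((slCx F).sg_fix_iff (y ^ 2)).mpr (Subgroup.mem_subgroupOf.mp h)
    rw [sg_eq_inv] at h1
    have h4 : y ^ 4 = y ^ 2 * y ^ 2 := by rw [← pow_add]
    rw [h4]
    nth_rewrite 1 [← h1]
    exact inv_mul_cancel _
  obtain ⟨l, hlZ, hly⟩ := exists_char_sq hcomm _ y hyZ
  have hl : l ≠ l.comp (slCx F).sg := by
    intro h
    apply hly
    have h1 := congrArg (fun f : (slCx F).D →* ℂˣ => f y) h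
    simp only [MonoidHom.comp_apply, sg_eq_inv, map_inv] at h1
    rw [pow_two]
    nth_rewrite 1 [h1]
    exact inv_mul_cancel _
  refine ⟨⟨l, hl⟩, ?_⟩
  intro z hz
  have hz' := center_le_Z hz
  show (slCx F).R l z = (slCx F).R l 1
  rw [(slCx F).R_one]
  have h1 := (slCx F).R_zz l ⟨z, hz'⟩
  simp only at h1
  rw [h1]
  have h4 : l ((slCx F).zD ⟨z, hz'⟩) = 1 := hlZ _ (by exact hz')
  rw [h4]
  simp

/-- A character of `T` trivial on scalars gives an `E4` with centre in the kernel. -/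
lemma exists_E4_ker (hq : 4 ≤ q) :
    ∃ a : (slCx F).Q, KerContains (Subgroup.center SL(2, F)) ((slCx F).E4 a : SL(2, F) → ℂ) := by
  classical
  obtain ⟨y, hy⟩ := exists_T_pow_four_ne (F := F) hq
  have hcomm : ∀ a b : (slCx F).T, a * b = b * a := fun a b => ((slCx F).commT).mul_comm a b
  have hyZ : y ^ 2 ∉ (slCx F).Z.subgroupOf (slCx F).T := by
    intro h
    apply hy
    have h1 := ((slCx F).sgT_fix_iff (y ^ 2)).mpr (Subgroup.mem_subgroupOf.mp h)
    rw [sgT_eq_inv] at h1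
    have h4 : y ^ 4 = y ^ 2 * y ^ 2 := by rw [← pow_add]
    rw [h4]
    nth_rewrite 1 [← h1]
    exact inv_mul_cancel _
  obtain ⟨l, hlZ, hly⟩ := exists_char_sq hcomm _ y hyZ
  have hl : l ≠ l.comp (slCx F).sgT := by
    intro h
    apply hly
    have h1 := congrArg (fun f : (slCx F).T →* ℂˣ => f y) h
    simp only [MonoidHom.comp_apply, sgT_eq_inv, map_inv] at h1
    rw [pow_two]
    nth_rewrite 1 [h1]
    exact inv_mul_cancel _
  refine ⟨⟨l, hl⟩, ?_⟩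
  intro z hz
  have hz' := center_le_Z hz
  show (slCx F).chi ((slCx F).lab l) l z = (slCx F).chi ((slCx F).lab l) l 1
  rw [(slCx F).chi_one ((slCx F).lab_comp l)]
  have h1 := (slCx F).chi_z ((slCx F).lab_comp l) ⟨z, hz'⟩
  simp only at h1
  rw [h1]
  have h4 : l ((slCx F).zT ⟨z, hz'⟩) = 1 := hlZ _ (by exact hz')
  rw [h4]
  simp

/-- The list of degrees of `SL₂(F)`. -/
def DegList (F : Type*) [Field F] [Fintype F] (d : ℕ) : Prop :=
  d = 1 ∨ d = Fintype.card F ∨ d = Fintype.card F + 1 ∨ d = Fintype.card F - 1 ∨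
    (Fintype.card F % 2 = 1 ∧ (d = (Fintype.card F + 1) / 2 ∨ d = (Fintype.card F - 1) / 2))

/-- All degrees of `SL₂(F)` are in the list; those equal to `q` are `E2`. -/
theorem deg_list (χ : IrrCharacter SL(2, F)) :
    DegList F (charDegree (χ : SL(2, F) → ℂ)) ∧
      (charDegree (χ : SL(2, F) → ℂ) = q → χ ∈ Set.range (slCx F).E2) := by
  by_cases h2 : (2 : F) = 0
  · obtain ⟨n, hn, h⟩ := cases_deg_even h2 χ
    have hd := charDegree_natCast hn
    rw [hd]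
    have hq : 2 ≤ q := Fintype.one_lt_card
    rcases h with h | h | h | h
    · refine ⟨Or.inl h.1, fun e => ?_⟩
      omega
    · exact ⟨Or.inr (Or.inl h.1), fun _ => h.2⟩
    · refine ⟨Or.inr (Or.inr (Or.inl h.1)), fun e => ?_⟩
      omega
    · refine ⟨Or.inr (Or.inr (Or.inr (Or.inl h.1))), fun e => ?_⟩
      omega
  · obtain ⟨P⟩ := exists_oddPack (F := F) h2
    obtain ⟨n, hn, h⟩ := P.cases_deg χ
    have hd := charDegree_natCast hn
    rw [hd]
    have hq : 2 ≤ q := Fintype.one_lt_card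
    have hq1 := sl_q_odd h2
    rcases h with h | h | h | h | h | h
    · refine ⟨Or.inl h.1, fun e => ?_⟩
      omega
    · exact ⟨Or.inr (Or.inl h.1), fun _ => h.2⟩
    · refine ⟨Or.inr (Or.inr (Or.inl h.1)), fun e => ?_⟩
      omega
    · refine ⟨Or.inr (Or.inr (Or.inr (Or.inl h.1))), fun e => ?_⟩
      omega
    · refine ⟨Or.inr (Or.inr (Or.inr (Or.inr ⟨hq1, Or.inl h.1⟩))), fun e => ?_⟩
      omega
    · refine ⟨Or.inr (Or.inr (Or.inr (Or.inr ⟨hq1, Or.inr h.1⟩))), fun e => ?_⟩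
      omega

/-- The degree of the inflation. -/
lemma charDegree_inflate {G : Type*} [Group G] (N : Subgroup G) [N.Normal] (ψ : IrrCharacter (G ⧸ N)) :
    charDegree ((inflate N ψ : IrrCharacter G) : G → ℂ) = charDegree (ψ : G ⧸ N → ℂ) := by
  show ⌊(((inflate N ψ : IrrCharacter G) : G → ℂ) 1).re⌋₊ = ⌊((ψ : G ⧸ N → ℂ) 1).re⌋₊
  rw [Cfsg.Agent.Lib.Degree.inflate_apply]
  rfl

/-- All degrees of `PSL₂(F)` are in the list. -/
theorem psl_deg_list (ψ : IrrCharacter (Matrix.ProjectiveSpecialLinearGroup (Fin 2) F)) :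
    DegList F (charDegree (ψ : Matrix.ProjectiveSpecialLinearGroup (Fin 2) F → ℂ)) := by
  have := (deg_list (inflate (Subgroup.center SL(2, F)) ψ)).1
  rwa [charDegree_inflate] at this

/-- The three degrees occur in `PSL₂(F)`. -/
theorem psl_q_mem : ∃ ψ : IrrCharacter (Matrix.ProjectiveSpecialLinearGroup (Fin 2) F),
    charDegree (ψ : Matrix.ProjectiveSpecialLinearGroup (Fin 2) F → ℂ) = q := by
  obtain ⟨ψ, hψ⟩ := exists_inflate (Subgroup.center SL(2, F)) (E2_ker ⟨1, fun _ => rfl⟩ rfl)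
  refine ⟨ψ, ?_⟩
  rw [← charDegree_inflate, hψ]
  exact charDegree_natCast ((slCx F).deg_E2 _)

theorem psl_q_add_one_mem (h2 : q ≠ 2) (h3 : q ≠ 3) (h5 : q ≠ 5) :
    ∃ ψ : IrrCharacter (Matrix.ProjectiveSpecialLinearGroup (Fin 2) F),
      charDegree (ψ : Matrix.ProjectiveSpecialLinearGroup (Fin 2) F → ℂ) = q + 1 := by
  obtain ⟨a, ha⟩ := exists_E3_ker (F := F) h2 h3 h5
  obtain ⟨ψ, hψ⟩ := exists_inflate (Subgroup.center SL(2, F)) ha
  refine ⟨ψ, ?_⟩
  rw [← charDegree_inflate, hψ]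
  exact charDegree_natCast (by simpa using (slCx F).deg_E3 a)

theorem psl_q_sub_one_mem (hq : 4 ≤ q) :
    ∃ ψ : IrrCharacter (Matrix.ProjectiveSpecialLinearGroup (Fin 2) F),
      charDegree (ψ : Matrix.ProjectiveSpecialLinearGroup (Fin 2) F → ℂ) = q - 1 := by
  obtain ⟨a, ha⟩ := exists_E4_ker (F := F) hq
  obtain ⟨ψ, hψ⟩ := exists_inflate (Subgroup.center SL(2, F)) ha
  refine ⟨ψ, ?_⟩
  rw [← charDegree_inflate, hψ]
  exact charDegree_natCast (by rw [(slCx F).deg_E4 a, Cx.qsub_cast])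

/-- There is at most one character of `PSL₂(F)` of degree `q`. -/
theorem psl_q_unique (ψ ψ' : IrrCharacter (Matrix.ProjectiveSpecialLinearGroup (Fin 2) F))
    (h : charDegree (ψ : Matrix.ProjectiveSpecialLinearGroup (Fin 2) F → ℂ) = q)
    (h' : charDegree (ψ' : Matrix.ProjectiveSpecialLinearGroup (Fin 2) F → ℂ) = q) : ψ = ψ' := by
  apply inflate_injective (Subgroup.center SL(2, F))
  obtain ⟨a, ha⟩ := (deg_list (inflate (Subgroup.center SL(2, F)) ψ)).2 (by rw [charDegree_inflate, h])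
  obtain ⟨b, hb⟩ := (deg_list (inflate (Subgroup.center SL(2, F)) ψ')).2 (by rw [charDegree_inflate, h'])
  rw [← ha, ← hb]
  have : a = b := Subtype.ext ((nu_eq_one a).trans (nu_eq_one b).symm)
  rw [this]

lemma charDegrees_subset_of_equiv {A B : Type*} [Group A] [Group B] (e : A ≃* B) :
    charDegrees B ⊆ charDegrees A := by
  intro d hd
  obtain ⟨χ, rfl⟩ := hd
  refine ⟨⟨(χ : B → ℂ) ∘ e.toMonoidHom, isIrr_comp_surjective e.toMonoidHom e.surjective χ.2⟩, ?_⟩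
  show ⌊((χ : B → ℂ) (e.toMonoidHom 1)).re⌋₊ = ⌊((χ : B → ℂ) 1).re⌋₊
  rw [map_one]

/-- Degrees are invariant under isomorphism. -/
lemma charDegrees_congr {S T : Type*} [Group S] [Group T] (e : S ≃* T) :
    charDegrees S = charDegrees T :=
  Set.Subset.antisymm (charDegrees_subset_of_equiv e.symm) (charDegrees_subset_of_equiv e)

/-- The facts on degrees of a group isomorphic to `PSL₂(F)` or `SL₂(F)`. -/
theorem degs_of_iso {S : Type*} [Group S] (h2 : q ≠ 2) (h3 : q ≠ 3) (h5 : q ≠ 5) (h4 : 4 ≤ q)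
    (hS : Nonempty (S ≃* Matrix.ProjectiveSpecialLinearGroup (Fin 2) F) ∨
      Nonempty (S ≃* Matrix.SpecialLinearGroup (Fin 2) F)) :
    (∀ d ∈ charDegrees S, DegList F d) ∧ q ∈ charDegrees S ∧ q + 1 ∈ charDegrees S ∧
      q - 1 ∈ charDegrees S := by
  rcases hS with ⟨⟨e⟩⟩ | ⟨⟨e⟩⟩
  · rw [charDegrees_congr e]
    refine ⟨?_, psl_q_mem, psl_q_add_one_mem h2 h3 h5, psl_q_sub_one_mem h4⟩
    rintro d ⟨ψ, rfl⟩
    exact psl_deg_list ψ
  · rw [charDegrees_congr e]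
    have up : charDegrees (Matrix.ProjectiveSpecialLinearGroup (Fin 2) F) ⊆ charDegrees SL(2, F) := by
      rintro d ⟨ψ, rfl⟩
      exact ⟨inflate (Subgroup.center SL(2, F)) ψ, charDegree_inflate _ ψ⟩
    refine ⟨?_, up psl_q_mem, up (psl_q_add_one_mem h2 h3 h5), up (psl_q_sub_one_mem h4)⟩
    rintro d ⟨χ, rfl⟩
    exact (deg_list χ).1

end Cfsg.Agent.Lib.Degree.PSL2Deg

namespace Cfsg.Agent.Lib.Degree.PSL2Deg

section arith

/-- `d` in the list divides one of the main degrees. -/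
lemma DegList.cases {F : Type*} [Field F] [Fintype F] {d : ℕ} (h : DegList F d) :
    d = 1 ∨ d = Fintype.card F ∨ d ∣ Fintype.card F + 1 ∨ d ∣ Fintype.card F - 1 := by
  rcases h with h | h | h | h | ⟨hq, h | h⟩
  · exact Or.inl h
  · exact Or.inr (Or.inl h)
  · exact Or.inr (Or.inr (Or.inl (by rw [h])))
  · exact Or.inr (Or.inr (Or.inr (by rw [h])))
  · refine Or.inr (Or.inr (Or.inl ⟨2, ?_⟩))
    rw [h]; omega
  · refine Or.inr (Or.inr (Or.inr ⟨2, ?_⟩))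
    rw [h]; omega

variable {cd : Set ℕ} {q t n : ℕ}

lemma prime_dvd_iff' (hq : 1 ≤ q) {r : ℕ} (hr : r.Prime) :
    r ∣ q * (q ^ 2 - 1) ↔ r ∣ q ∨ r ∣ q + 1 ∨ r ∣ q - 1 := by
  have e : q ^ 2 - 1 = (q + 1) * (q - 1) := by
    have := Nat.sq_sub_sq q 1
    simpa using this
  rw [e, hr.dvd_mul, hr.dvd_mul]

/-- The vertices. -/
theorem primes_eq (hq : 1 ≤ q) (hcd : ∀ d ∈ cd, d = 1 ∨ d = q ∨ d ∣ q + 1 ∨ d ∣ q - 1)
    (h0 : q ∈ cd) (h1 : q + 1 ∈ cd) (h2 : q - 1 ∈ cd) :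
    {p : ℕ | p.Prime ∧ ∃ d ∈ cd, p ∣ d} = {r : ℕ | r.Prime ∧ r ∣ q * (q ^ 2 - 1)} := by
  ext r
  constructor
  · rintro ⟨hr, d, hd, hrd⟩
    refine ⟨hr, (prime_dvd_iff' hq hr).mpr ?_⟩
    rcases hcd d hd with rfl | rfl | h | h
    · exact absurd (Nat.dvd_one.mp hrd) hr.one_lt.ne'
    · exact Or.inl hrd
    · exact Or.inr (Or.inl (hrd.trans h))
    · exact Or.inr (Or.inr (hrd.trans h))
  · rintro ⟨hr, h⟩
    refine ⟨hr, ?_⟩
    rcases (prime_dvd_iff' hq hr).mp h with h | h | h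
    · exact ⟨_, h0, h⟩
    · exact ⟨_, h1, h⟩
    · exact ⟨_, h2, h⟩

/-- The edges. -/
theorem adj_iff (hqt : q = t ^ n) (ht : t.Prime) (hcd : ∀ d ∈ cd, d = 1 ∨ d = q ∨ d ∣ q + 1 ∨ d ∣ q - 1)
    (h1 : q + 1 ∈ cd) (h2 : q - 1 ∈ cd) {r s : ℕ} :
    (r ≠ s ∧ r.Prime ∧ s.Prime ∧ ∃ d ∈ cd, r * s ∣ d) ↔
      (r ≠ s ∧ r.Prime ∧ s.Prime ∧ ((r ∣ q + 1 ∧ s ∣ q + 1) ∨ (r ∣ q - 1 ∧ s ∣ q - 1))) := by
  constructor
  · rintro ⟨hrs, hr, hs, d, hd, hdvd⟩
    refine ⟨hrs, hr, hs, ?_⟩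
    have hrd : r ∣ d := (Nat.dvd_mul_right r s).trans hdvd
    have hsd : s ∣ d := (Nat.dvd_mul_left s r).trans hdvd
    rcases hcd d hd with rfl | rfl | h | h
    · exact absurd (Nat.dvd_one.mp hrd) hr.one_lt.ne'
    · exfalso
      rw [hqt] at hrd hsd
      have e1 := (Nat.prime_dvd_prime_iff_eq hr ht).mp (hr.dvd_of_dvd_pow hrd)
      have e2 := (Nat.prime_dvd_prime_iff_eq hs ht).mp (hs.dvd_of_dvd_pow hsd)
      exact hrs (e1.trans e2.symm)
    · exact Or.inl ⟨hrd.trans h, hsd.trans h⟩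
    · exact Or.inr ⟨hrd.trans h, hsd.trans h⟩
  · rintro ⟨hrs, hr, hs, h⟩
    refine ⟨hrs, hr, hs, ?_⟩
    have hcop : Nat.Coprime r s := (Nat.coprime_primes hr hs).mpr hrs
    rcases h with ⟨a, b⟩ | ⟨a, b⟩
    · exact ⟨_, h1, hcop.mul_dvd_of_dvd_of_dvd a b⟩
    · exact ⟨_, h2, hcop.mul_dvd_of_dvd_of_dvd a b⟩

end arith

end Cfsg.Agent.Lib.Degree.PSL2Deg
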