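import Mathlib
import Cfsg.Agent.Lib.Degree.UniqueDvd
import Cfsg.Agent.Lib.CharExtra.Ito
import Cfsg.Agent.Lib.Char.Clifford2
import Cfsg.Agent.Lib.Char.ProjDvd
import Cfsg.Agent.Lib.Char.Gallagher

/-!
# Unique irreducible character of degree divisible by `p`: characters over a normal `p`-complement
-/

set_option autoImplicit false
set_option linter.unusedSectionVars false
set_option linter.unusedSimpArgs false
set_option linter.unusedVariables false

open scoped ComplexConjugate
open Module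
open Cfsg

namespace Cfsg.Agent.Lib.Degree

open Cfsg.Agent.Lib.Char Cfsg.Agent.Lib.CharExtra

section Over

variable {G : Type*} [Group G] [Fintype G] {p : ℕ} [hp : Fact p.Prime] (N : Subgroup G)
  [hN : N.Normal] [Fintype N]

theorem inv_of_not_dvd {k : ℕ} (hidx : N.index = p ^ k) (χ : IrrCharacter G) (θ : IrrCharacter N)
    (h : classInner (fun n : N => (χ : G → ℂ) n) (θ : N → ℂ) ≠ 0)
    (hχ : ¬ p ∣ charDegree (χ : G → ℂ)) :
    ∀ g, conjFn hN g (θ : N → ℂ) = θ := by
  have h1 := inertia_index_mul_degree_dvd N hN χ.2 θ.2 h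
  have h2 : (inertia hN (θ : N → ℂ)).index ∣ N.index :=
    Subgroup.index_dvd_of_le (le_inertia hN (IsCharacter.isClassFunction (IsIrrCharacter.isCharacter θ.2)))
  rw [hidx] at h2
  obtain ⟨j, -, hj⟩ := (Nat.dvd_prime_pow hp.out).mp h2
  have hj0 : j = 0 := by
    by_contra hne
    apply hχ
    refine (dvd_pow_self p hne).trans ?_
    rw [← hj]
    exact (Dvd.intro _ rfl).trans h1
  have h3 : inertia hN (θ : N → ℂ) = ⊤ := Subgroup.index_eq_one.mp (by rw [hj, hj0, pow_zero])
  intro g
  have h4 : g ∈ inertia hN (θ : N → ℂ) := by rw [h3]; trivial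
  exact h4

theorem restrict_of_not_dvd {k : ℕ} (hidx : N.index = p ^ k) (χ : IrrCharacter G) (θ : IrrCharacter N)
    (h : classInner (fun n : N => (χ : G → ℂ) n) (θ : N → ℂ) ≠ 0)
    (hχ : ¬ p ∣ charDegree (χ : G → ℂ)) :
    (fun n : N => (χ : G → ℂ) n) = θ := by
  have hinv := inv_of_not_dvd N hidx χ θ h hχ
  obtain ⟨e, he⟩ := classInner_isCharacter_nat
    (IsCharacter.restrict N (IsIrrCharacter.isCharacter χ.2)) (IsIrrCharacter.isCharacter θ.2)
  have he0 : e ≠ 0 := by
    rintro rfl
    exact h (by simpa using he)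
  have h5 := mult_dvd_index_of_invariant N θ.2 (fun g n => congrFun (hinv g) n) χ.2 he he0
  have h6 := clifford_degree hN χ.2 θ.2 he he0
  rw [hidx] at h5
  obtain ⟨j, -, hj⟩ := (Nat.dvd_prime_pow hp.out).mp h5
  have hj0 : j = 0 := by
    by_contra hne
    apply hχ
    rw [h6, hj]
    exact ((dvd_pow_self p hne).mul_right _).mul_right _
  have he1 : e = 1 := by rw [hj, hj0, pow_zero]
  have h7 := clifford_invariant hN χ.2 θ.2 hinv h
  rw [he, he1] at h7
  simpa using h7

theorem card_over_of_not_dvd {k : ℕ} (hidx : N.index = p ^ k) (θ : IrrCharacter N)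
    [DecidablePred (fun χ : IrrCharacter G => classInner (fun n : N => (χ : G → ℂ) n) (θ : N → ℂ) ≠ 0)]
    (hall : ∀ χ : IrrCharacter G, classInner (fun n : N => (χ : G → ℂ) n) (θ : N → ℂ) ≠ 0 →
      ¬ p ∣ charDegree (χ : G → ℂ)) :
    (Finset.univ.filter (fun χ : IrrCharacter G =>
      classInner (fun n : N => (χ : G → ℂ) n) (θ : N → ℂ) ≠ 0)).card = N.index := by
  classical
  have hθc := IsIrrCharacter.isCharacter θ.2
  have hI := indFun_isCharacter N hθc
  have h1 := congrFun (classFunction_eq_sum _ (IsCharacter.isClassFunction hI)) 1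
  rw [indFun_one, Finset.sum_apply] at h1
  have h2 : ∀ χ : IrrCharacter G, (classInner (indFun N (θ : N → ℂ)) (χ : G → ℂ) • (χ : G → ℂ)) 1 =
      (if classInner (fun n : N => (χ : G → ℂ) n) (θ : N → ℂ) ≠ 0 then (θ : N → ℂ) 1 else 0) := by
    intro χ
    have h3 : classInner (indFun N (θ : N → ℂ)) (χ : G → ℂ) =
        conj (classInner (fun n : N => (χ : G → ℂ) n) (θ : N → ℂ)) := by
      rw [← frobenius_reciprocity' N _ _ (IsCharacter.isClassFunction (IsIrrCharacter.isCharacter χ.2)),
        conj_classInner]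
    rw [Pi.smul_apply, smul_eq_mul, h3]
    split_ifs with hne
    · have hres := restrict_of_not_dvd N hidx χ θ hne (hall χ hne)
      rw [hres, classInner_irr_self θ.2, map_one, one_mul]
      have := congrFun hres 1
      simpa using this
    · push Not at hne
      rw [hne]
      simp
  simp only [h2] at h1
  rw [Finset.sum_ite, Finset.sum_const_zero, add_zero, Finset.sum_const, nsmul_eq_mul] at h1
  have h3 : (θ : N → ℂ) 1 ≠ 0 := irr_degree_ne_zero θ
  have h4 := mul_right_cancel₀ h3 h1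
  exact_mod_cast h4.symm

/-- A complement decomposition of the elements. -/
theorem exists_mul_of_sup {P : Subgroup G} (hNP : N ⊔ P = ⊤) (g : G) : ∃ n ∈ N, ∃ x ∈ P, g = n * x := by
  have h1 : g ∈ (↑(N ⊔ P) : Set G) := by rw [hNP]; trivial
  rw [Subgroup.normal_mul] at h1
  obtain ⟨n, hn, x, hx, rfl⟩ := Set.mem_mul.mp h1
  exact ⟨n, hn, x, hx, rfl⟩

theorem disjoint_of_not_dvd {P : Subgroup G} (hPp : IsPGroup p P) (hNp : ¬ p ∣ Nat.card N) : N ⊓ P = ⊥ := by
  rw [eq_bot_iff]
  intro x hx
  obtain ⟨hxN, hxP⟩ := Subgroup.mem_inf.mp hx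
  obtain ⟨k, hk⟩ := hPp ⟨x, hxP⟩
  have hk' : x ^ p ^ k = 1 := by simpa using congrArg Subtype.val hk
  have h3 : orderOf x ∣ p ^ k := orderOf_dvd_of_pow_eq_one hk'
  have h4 : orderOf x ∣ Nat.card N := by
    have : orderOf (⟨x, hxN⟩ : N) = orderOf x := Subgroup.orderOf_mk _ _
    rw [← this]
    exact orderOf_dvd_natCard _
  have h5 : (Nat.card N).Coprime (p ^ k) :=
    Nat.Coprime.pow_right k (((Nat.Prime.coprime_iff_not_dvd hp.out).mpr hNp).symm)
  have h6 := Nat.Coprime.eq_one_of_dvd (h5.coprime_dvd_left h4) h3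
  exact Subgroup.mem_bot.mpr (orderOf_eq_one_iff.mp h6)

/-- If `P` centralizes `N` and `G` has a unique irreducible character of degree divisible by `p`,
then `N` is trivial. -/
theorem eq_bot_of_centralizes {k : ℕ} (hidx : N.index = p ^ k) (hNp : ¬ p ∣ Nat.card N)
    (P : Subgroup G) (hPp : IsPGroup p P) (hNP : N ⊔ P = ⊤)
    (hcent : ∀ x ∈ P, ∀ n ∈ N, x * n * x⁻¹ = n)
    (χ₀ : IrrCharacter G) (h0 : p ∣ charDegree (χ₀ : G → ℂ))
    (huniq : ∀ χ : IrrCharacter G, p ∣ charDegree (χ : G → ℂ) → χ = χ₀) : N = ⊥ := by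
  classical
  have hpp : p.Prime := hp.out
  by_contra hne
  have hinvall : ∀ (θ : IrrCharacter N) (g : G), conjFn hN g (θ : N → ℂ) = θ := by
    intro θ g
    obtain ⟨n, hn, x, hx, rfl⟩ := exists_mul_of_sup N hNP g
    funext m
    show (θ : N → ℂ) ⟨n * x * m * (n * x)⁻¹, _⟩ = (θ : N → ℂ) m
    have h1 : n * x * (m : G) * (n * x)⁻¹ = n * (m : G) * n⁻¹ := by
      have h2 := hcent x hx m m.2
      calc n * x * (m : G) * (n * x)⁻¹ = n * (x * m * x⁻¹) * n⁻¹ := by group
        _ = _ := by rw [h2]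
    have h3 : (⟨n * x * m * (n * x)⁻¹, hN.conj_mem (m : G) m.2 (n * x)⟩ : N) =
        (⟨n, hn⟩ : N) * m * (⟨n, hn⟩ : N)⁻¹ := Subtype.ext h1
    rw [h3]
    have := IsCharacter.isClassFunction (IsIrrCharacter.isCharacter θ.2) m (⟨n, hn⟩ : N)
    exact this
  -- a constituent of `χ₀`
  have hres0 := IsCharacter.restrict N (IsIrrCharacter.isCharacter χ₀.2)
  have hne0 : (fun n : N => (χ₀ : G → ℂ) n) ≠ 0 := by
    intro h
    have := congrFun h 1
    simp only [Pi.zero_apply] at this
    exact irr_degree_ne_zero χ₀ (by simpa using this)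
  obtain ⟨θ₀', hθ₀', hθ₀ne⟩ := exists_constituent hres0 hne0
  let θ₀ : IrrCharacter N := ⟨θ₀', hθ₀'⟩
  have hχ₀N := clifford_invariant hN χ₀.2 hθ₀' (hinvall θ₀) hθ₀ne
  -- another character of `N`
  haveI : Nontrivial N := by
    by_contra hnt
    rw [not_nontrivial_iff_subsingleton] at hnt
    exact hne (Subgroup.eq_bot_of_subsingleton N)
  haveI : Nontrivial (IrrCharacter N) := by
    have h1 : 1 < Nat.card (IrrCharacter N) := by
      rw [card_irr_eq_card_conjClasses]
      obtain ⟨x, hx⟩ := exists_ne (1 : N)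
      have hne' : ConjClasses.mk x ≠ ConjClasses.mk (1 : N) := by
        intro h
        have := ConjClasses.mk_eq_mk_iff_isConj.mp h
        exact hx (isConj_one_right.mp this.symm)
      haveI : Nontrivial (ConjClasses N) := ⟨⟨_, _, hne'⟩⟩
      exact Finite.one_lt_card
    exact (Finite.one_lt_card_iff_nontrivial).mp h1
  obtain ⟨θ', hθ'⟩ := exists_ne θ₀
  have hinner0 : classInner (fun n : N => (χ₀ : G → ℂ) n) (θ' : N → ℂ) = 0 := by
    rw [hχ₀N, classInner_smul_left, classInner_irr_of_ne θ₀.2 θ'.2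
      (fun h => hθ' (Subtype.ext h.symm)), mul_zero]
  -- an extension of `θ'`
  obtain ⟨τ', hτ', hτne⟩ := exists_irr_over N θ'.2
  let τ : IrrCharacter G := ⟨τ', hτ'⟩
  have hτ0 : τ ≠ χ₀ := by
    rintro rfl
    exact hτne hinner0
  have hτp : ¬ p ∣ charDegree (τ : G → ℂ) := fun h => hτ0 (huniq τ h)
  have hτres := restrict_of_not_dvd N hidx τ θ' hτne hτp
  have hτext : ∀ n : N, τ' n = (θ' : N → ℂ) n := fun n => congrFun hτres n
  have hτd : charDegree (τ : G → ℂ) ≠ 0 := (charDegree_pos_of_irr τ.2).ne'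
  -- characters over the trivial character are linear
  have hlinβ : ∀ β : IrrCharacter G, KerContains N (β : G → ℂ) → (β : G → ℂ) 1 = 1 := by
    intro β hβ
    have hβres : (fun n : N => (β : G → ℂ) n) = ((β : G → ℂ) 1) • ((principal N : IrrCharacter N) : N → ℂ) := by
      funext n
      simp [hβ n n.2]
    have hprod : IsIrrCharacter N (((principal N : IrrCharacter N) : N → ℂ) * (θ' : N → ℂ)) := by
      have : ((principal N : IrrCharacter N) : N → ℂ) * (θ' : N → ℂ) = θ' := by
        funext n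
        simp
      rw [this]
      exact θ'.2
    have hβc := IsIrrCharacter.isCharacter β.2
    have hn := classInner_mul_extension N (principal N).2 θ'.2 hprod hτ' hτext hβc hβc hβres hβres
    rw [classInner_irr_self β.2] at hn
    have hprodc : IsCharacter G ((β : G → ℂ) * τ') := IsCharacter.mul hβc (IsIrrCharacter.isCharacter hτ')
    have hirr := isIrr_of_character_norm_one hprodc hn
    let ξ : IrrCharacter G := ⟨_, hirr⟩
    have hξres : (fun n : N => (ξ : G → ℂ) n) = ((β : G → ℂ) 1) • (θ' : N → ℂ) := by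
      funext n
      show (β : G → ℂ) n * τ' n = _
      rw [hτext, hβ n n.2]
      simp
    have hβ1 := irr_degree_ne_zero β
    have hξne : classInner (fun n : N => (ξ : G → ℂ) n) (θ' : N → ℂ) ≠ 0 := by
      rw [hξres, classInner_smul_left, classInner_irr_self θ'.2, mul_one]
      exact hβ1
    have hξ0 : ξ ≠ χ₀ := by
      rintro h
      rw [h] at hξne
      exact hξne hinner0
    have hξp : ¬ p ∣ charDegree (ξ : G → ℂ) := fun h => hξ0 (huniq ξ h)
    have hdegξ : charDegree (ξ : G → ℂ) = charDegree (β : G → ℂ) * charDegree (τ : G → ℂ) := by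
      apply charDegree_natCast
      show (β : G → ℂ) 1 * τ' 1 = _
      rw [map_one_eq_charDegree hβc, map_one_eq_charDegree (IsIrrCharacter.isCharacter hτ')]
      push_cast
      rfl
    have hβp : ¬ p ∣ charDegree (β : G → ℂ) := fun h => hξp (by rw [hdegξ]; exact h.mul_right _)
    -- the degree of `β` divides the index
    obtain ⟨ψ, hψ⟩ := exists_inflate N hβ
    have h1 : charDegree (ψ : G ⧸ N → ℂ) ∣ Nat.card (G ⧸ N) := charDegree_dvd_card ψ.2
    have h2 : Nat.card (G ⧸ N) = p ^ k := hidx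
    have h3 : (β : G → ℂ) 1 = (charDegree (ψ : G ⧸ N → ℂ) : ℂ) := by
      rw [← hψ, inflate_apply]
      exact map_one_eq_charDegree (IsIrrCharacter.isCharacter ψ.2)
    have h4 : charDegree (β : G → ℂ) = charDegree (ψ : G ⧸ N → ℂ) := charDegree_natCast h3
    rw [h2] at h1
    obtain ⟨j, -, hj⟩ := (Nat.dvd_prime_pow hpp).mp h1
    have hj0 : j = 0 := by
      by_contra hne
      exact hβp (by rw [h4, hj]; exact dvd_pow_self p hne)
    rw [h3, hj, hj0]
    simp
  -- the quotient is abelian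
  have hcomm : commutator G ≤ N := by
    intro c hc
    by_contra hcN
    have h1 := sum_kerContains_degree_mul N hcN
    have h2 : ∀ β ∈ Finset.univ.filter (fun χ : IrrCharacter G => KerContains N (χ : G → ℂ)),
        (β : G → ℂ) 1 * (β : G → ℂ) c = 1 := by
      intro β hβ
      have hβ' := (Finset.mem_filter.mp hβ).2
      have h3 := hlinβ β hβ'
      rw [h3, irr_linear_commutator β h3 hc, one_mul]
    rw [Finset.sum_congr rfl h2, Finset.sum_const, nsmul_eq_mul, mul_one] at h1
    have h4 : (Finset.univ.filter (fun χ : IrrCharacter G => KerContains N (χ : G → ℂ))).card = 0 := by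
      exact_mod_cast h1
    rw [Finset.card_eq_zero] at h4
    have h5 : principal G ∈ Finset.univ.filter (fun χ : IrrCharacter G => KerContains N (χ : G → ℂ)) := by
      simp only [Finset.mem_filter, Finset.mem_univ, true_and]
      intro n _
      simp
    rw [h4] at h5
    simp at h5
  have hdisj := disjoint_of_not_dvd N hPp hNp
  have hab : ∀ a ∈ P, ∀ b ∈ P, a * b = b * a := by
    intro a ha b hb
    have h1 : a * b * a⁻¹ * b⁻¹ ∈ N := by
      have := hcomm (Subgroup.commutator_mem_commutator (Subgroup.mem_top a) (Subgroup.mem_top b))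
      rwa [commutatorElement_def] at this
    have h2 : a * b * a⁻¹ * b⁻¹ ∈ P :=
      P.mul_mem (P.mul_mem (P.mul_mem ha hb) (P.inv_mem ha)) (P.inv_mem hb)
    have h3 : a * b * a⁻¹ * b⁻¹ ∈ N ⊓ P := Subgroup.mem_inf.mpr ⟨h1, h2⟩
    rw [hdisj, Subgroup.mem_bot] at h3
    calc a * b = (a * b * a⁻¹ * b⁻¹) * (b * a) := by group
      _ = b * a := by rw [h3, one_mul]
  haveI hPn : P.Normal := by
    constructor
    intro y hy g
    obtain ⟨n, hn, x, hx, rfl⟩ := exists_mul_of_sup N hNP g
    have h1 : x * y * x⁻¹ ∈ P := P.mul_mem (P.mul_mem hx hy) (P.inv_mem hx)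
    have h2 := hcent _ h1 n hn
    have h3 : n * (x * y * x⁻¹) * n⁻¹ = x * y * x⁻¹ := by
      have h4 : (x * y * x⁻¹) * n = n * (x * y * x⁻¹) := by
        calc (x * y * x⁻¹) * n = (x * y * x⁻¹) * n * (x * y * x⁻¹)⁻¹ * (x * y * x⁻¹) := by group
          _ = n * (x * y * x⁻¹) := by rw [h2]
      rw [← h4]
      group
    have h5 : n * x * y * (n * x)⁻¹ = n * (x * y * x⁻¹) * n⁻¹ := by group
    rw [h5, h3]
    exact h1
  have hidxP : ¬ p ∣ P.index := by
    have hc : Subgroup.IsComplement' N P := by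
      refine Subgroup.isComplement'_of_disjoint_and_mul_eq_univ ?_ ?_
      · exact disjoint_iff.mpr hdisj
      · rw [← Subgroup.normal_mul, hNP]
        rfl
    rw [hc.index_eq_card]
    exact hNp
  exact degrees_of_normal_abelian_sylow P hPp hidxP hab χ₀ h0

end Over

end Cfsg.Agent.Lib.Degree
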