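import Mathlib
import Cfsg.Agent.Lib.Degree.UniqueDvd2
import Cfsg.Agent.Lib.Coprime.GlauberP
import Cfsg.Agent.Lib.Coprime.Kaz
import Cfsg.Agent.Lib.Block.Jordan

/-!
# Unique irreducible character of degree divisible by `p`: counting classes
-/

set_option autoImplicit false
set_option linter.unusedSectionVars false
set_option linter.unusedSimpArgs false
set_option linter.unusedVariables false

open scoped ComplexConjugate
open Module
open Cfsg

namespace Cfsg.Agent.Lib.Degree

open Cfsg.Agent.Lib.Char Cfsg.Agent.Lib.CharExtra Cfsg.Agent.Lib.Coprime Cfsg.Agent.Lib.Block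

section Classes

variable {G : Type*} [Group G] [Fintype G] {p : ℕ} [hp : Fact p.Prime] (N P : Subgroup G) [hN : N.Normal]

/-- The centralizer in `N` of `P`. -/
abbrev cenIn : Subgroup G := N ⊓ Subgroup.centralizer (P : Set G)

theorem card_carrier_eq_index (g : G) : Nat.card (ConjClasses.mk g).carrier = (Subgroup.centralizer ({g} : Set G)).index := by
  rw [index_centralizer_eq_ncard, Nat.card_coe_set_eq]

theorem not_dvd_card_of_comm (hPS : ¬ p ∣ P.index) {g : G} (hg : ∀ u ∈ P, u * g = g * u) :
    ¬ p ∣ Nat.card (ConjClasses.mk g).carrier := by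
  rw [card_carrier_eq_index]
  intro h
  apply hPS
  refine h.trans (Subgroup.index_dvd_of_le ?_)
  intro u hu
  rw [Subgroup.mem_centralizer_singleton_iff]
  exact hg u hu

/-- Chosen representative of a class. -/
noncomputable def clRep {X : Type*} [Group X] (K : ConjClasses X) : X :=
  Classical.choose (ConjClasses.mk_surjective K)

theorem mk_clRep {X : Type*} [Group X] (K : ConjClasses X) : ConjClasses.mk (clRep K) = K :=
  Classical.choose_spec (ConjClasses.mk_surjective K)

theorem card_classes_not_dvd (hPp : IsPGroup p P) (hPS : ¬ p ∣ P.index) (hNp : ¬ p ∣ Nat.card N)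
    (hNP : N ⊔ P = ⊤) (hab : ∀ a ∈ P, ∀ b ∈ P, a * b = b * a)
    (hnorm : ∀ s ∈ P, ∀ g ∈ N, s * g * s⁻¹ ∈ N) :
    Nat.card {c : ConjClasses G // ¬ p ∣ Nat.card c.carrier} =
      Nat.card (ConjClasses (cenIn N P)) * Nat.card P := by
  classical
  have hdisj := disjoint_of_not_dvd N hPp hNp
  have hcommC : ∀ (c : cenIn N P), ∀ u ∈ P, u * (c : G) = c * u := fun c u hu =>
    (Subgroup.mem_centralizer_iff.mp c.2.2 u hu)
  have hcomm : ∀ (c : cenIn N P) (y : P), ∀ u ∈ P, u * ((c : G) * y) = ((c : G) * y) * u := by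
    intro c y u hu
    calc u * ((c : G) * y) = (u * c) * y := by group
      _ = (c * u) * y := by rw [hcommC c u hu]
      _ = c * (u * y) := by group
      _ = c * (y * u) := by rw [hab u hu y y.2]
      _ = _ := by group
  let F : ConjClasses (cenIn N P) × P → {c : ConjClasses G // ¬ p ∣ Nat.card c.carrier} := fun a =>
    ⟨ConjClasses.mk (((clRep a.1 : cenIn N P) : G) * (a.2 : G)), not_dvd_card_of_comm P hPS (hcomm _ _)⟩
  have hF : Function.Bijective F := by
    constructor
    · rintro ⟨K, y⟩ ⟨K', y'⟩ hFF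
      have h0 : ConjClasses.mk (((clRep K : cenIn N P) : G) * (y : G)) =
          ConjClasses.mk (((clRep K' : cenIn N P) : G) * (y' : G)) := congrArg Subtype.val hFF
      set c := clRep K with hc
      set c' := clRep K' with hc'
      obtain ⟨g, hg⟩ := isConj_iff.mp (ConjClasses.mk_eq_mk_iff_isConj.mp h0)
      obtain ⟨n, hn, w, hw, rfl⟩ := exists_mul_of_sup N hNP g
      have h1 : n * ((c : G) * y) * n⁻¹ = (c' : G) * y' := by
        have h2 := hcomm c y w hw
        have h3 : w * ((c : G) * y) * w⁻¹ = (c : G) * y := by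
          rw [h2]
          group
        calc n * ((c : G) * y) * n⁻¹ = n * (w * ((c : G) * y) * w⁻¹) * n⁻¹ := by rw [h3]
          _ = n * w * ((c : G) * y) * (n * w)⁻¹ := by group
          _ = _ := hg
      have hcN : (c : G) ∈ N := c.2.1
      have hcN' : (c' : G) ∈ N := c'.2.1
      -- equality of the `P`-parts
      have hy : (y : G) = y' := by
        have h2 : (y : G)⁻¹ * y' ∈ N := by
          rw [← QuotientGroup.eq]
          have h3 := congrArg (QuotientGroup.mk' N) h1
          simp only [map_mul, map_inv] at h3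
          have e1 : QuotientGroup.mk' N n = 1 := (QuotientGroup.eq_one_iff n).mpr hn
          have e2 : QuotientGroup.mk' N (c : G) = 1 := (QuotientGroup.eq_one_iff _).mpr hcN
          have e3 : QuotientGroup.mk' N (c' : G) = 1 := (QuotientGroup.eq_one_iff _).mpr hcN'
          rw [e1, e2, e3] at h3
          simpa using h3
        have h3 : (y : G)⁻¹ * y' ∈ P := P.mul_mem (P.inv_mem y.2) y'.2
        have h4 : (y : G)⁻¹ * y' ∈ N ⊓ P := Subgroup.mem_inf.mpr ⟨h2, h3⟩
        rw [hdisj, Subgroup.mem_bot] at h4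
        exact inv_mul_eq_one.mp h4
      have hyy : y = y' := Subtype.ext hy
      -- orders
      have hord : ∀ z : P, ∃ k, orderOf (z : G) = p ^ k := by
        intro z
        obtain ⟨k, hk⟩ := hPp z
        have hk' : (z : G) ^ p ^ k = 1 := by simpa using congrArg Subtype.val hk
        obtain ⟨j, -, hj⟩ := (Nat.dvd_prime_pow hp.out).mp (orderOf_dvd_of_pow_eq_one hk')
        exact ⟨j, hj⟩
      have hordN : ∀ z ∈ N, ¬ p ∣ orderOf z := by
        intro z hz h
        apply hNp
        refine h.trans ?_
        have : orderOf (⟨z, hz⟩ : N) = orderOf z := Subgroup.orderOf_mk _ _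
        rw [← this]
        exact orderOf_dvd_natCard _
      have hconj1 : ∀ z : G, orderOf (n * z * n⁻¹) = orderOf z := by
        intro z
        have : n * z * n⁻¹ = MulAut.conj n z := rfl
        rw [this]
        exact MulEquiv.orderOf_eq _ _
      have hcy : Commute (y : G) (c : G) := (hcommC c y y.2)
      have hcy' : Commute (y : G) (c' : G) := (hcommC c' y y.2)
      have hp1 : IsPPart p ((c' : G) * y) (y : G) :=
        ⟨(c' : G), hcy'.eq, hcy', hord y, hordN _ hcN'⟩
      have hp2 : IsPPart p ((c' : G) * y) (n * y * n⁻¹) := by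
        refine ⟨n * c * n⁻¹, ?_, ?_, ?_, ?_⟩
        · have h3 : (c' : G) * y = n * ((c : G) * y) * n⁻¹ := by rw [h1, hy]
          rw [h3, hcy.eq.symm]
          group
        · show n * y * n⁻¹ * (n * c * n⁻¹) = n * c * n⁻¹ * (n * y * n⁻¹)
          calc n * y * n⁻¹ * (n * c * n⁻¹) = n * ((y : G) * c) * n⁻¹ := by group
            _ = n * ((c : G) * y) * n⁻¹ := by rw [hcy.eq]
            _ = _ := by group
        · rw [hconj1]
          exact hord y
        · rw [hconj1]
          exact hordN _ hcN
      have hny : n * y * n⁻¹ = (y : G) := IsPPart_eq hp2 hp1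
      have hnc : n * c * n⁻¹ = (c' : G) := by
        have h3 : n * (c : G) * n⁻¹ * (n * y * n⁻¹) = (c' : G) * y := by
          have h4 : (c' : G) * y = n * ((c : G) * y) * n⁻¹ := by rw [h1, hy]
          rw [h4]
          group
        rw [hny] at h3
        exact mul_right_cancel h3
      -- conjugate in the centralizer
      have hcop : (Nat.card P).Coprime (Nat.card N) := by
        obtain ⟨k, hk⟩ := IsPGroup.iff_card.mp hPp
        rw [hk]
        exact Nat.Coprime.pow_left k ((Nat.Prime.coprime_iff_not_dvd hp.out).mpr hNp)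
      have hsol : Group.IsSolvable P ∨ Group.IsSolvable N := by
        left
        haveI := hPp.isNilpotent
        infer_instance
      let φ := conjAct N P hnorm
      let cN : N := ⟨c, hcN⟩
      let cN' : N := ⟨c', hcN'⟩
      have hfixc : ∀ a, φ a cN = cN := by
        intro a
        apply Subtype.ext
        show (a : G) * c * (a : G)⁻¹ = c
        rw [hcommC c a a.2]
        group
      have hfixc' : ∀ a, φ a cN' = cN' := by
        intro a
        apply Subtype.ext
        show (a : G) * c' * (a : G)⁻¹ = c'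
        rw [hcommC c' a a.2]
        group
      have hconjN : IsConj cN cN' := isConj_iff.mpr ⟨⟨n, hn⟩, Subtype.ext hnc⟩
      obtain ⟨d, hd, hd2⟩ := exists_fixed_conj_of_conj hcop hsol hfixc hfixc' hconjN
      have hdC : (d : G) ∈ cenIn N P := by
        refine ⟨d.2, Subgroup.mem_centralizer_iff.mpr fun u hu => ?_⟩
        have h3 := congrArg Subtype.val (hd ⟨u, hu⟩)
        have h4 : u * (d : G) * u⁻¹ = d := h3
        calc u * (d : G) = u * (d : G) * u⁻¹ * u := by group
          _ = d * u := by rw [h4]
      have hKK : K = K' := by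
        have h5 : (d : G) * (c : G) * (d : G)⁻¹ = (c' : G) := congrArg Subtype.val hd2
        calc K = ConjClasses.mk c := (mk_clRep K).symm
          _ = ConjClasses.mk c' := ConjClasses.mk_eq_mk_iff_isConj.mpr
            (isConj_iff.mpr ⟨⟨d, hdC⟩, Subtype.ext h5⟩)
          _ = K' := mk_clRep K'
      rw [hKK, hyy]
    · rintro ⟨κ, hκ⟩
      letI act : MulAction P κ.carrier :=
        { smul := fun u x => ⟨(u : G) * (x : G) * (u : G)⁻¹, by
            have h1 := x.2
            rw [ConjClasses.mem_carrier_iff_mk_eq] at h1 ⊢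
            refine Eq.trans ?_ h1
            apply ConjClasses.mk_eq_mk_iff_isConj.mpr
            exact (isConj_iff.mpr ⟨(u : G), rfl⟩).symm⟩
          one_smul := by
            intro x
            apply Subtype.ext
            show (((1 : P) : G)) * (x : G) * ((1 : P) : G)⁻¹ = x
            simp
          mul_smul := by
            intro u v x
            apply Subtype.ext
            show ((u * v : P) : G) * (x : G) * ((u * v : P) : G)⁻¹ = (u : G) * ((v : G) * (x : G) * (v : G)⁻¹) * (u : G)⁻¹
            simp only [Subgroup.coe_mul]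
            group }
      obtain ⟨g₁, hfix⟩ := hPp.nonempty_fixed_point_of_prime_not_dvd_card κ.carrier hκ
      have hfix' : ∀ u ∈ P, u * (g₁ : G) * u⁻¹ = g₁ := fun u hu =>
        congrArg Subtype.val (hfix ⟨u, hu⟩)
      obtain ⟨n, hn, y, hy, hg₁⟩ := exists_mul_of_sup N hNP (g₁ : G)
      have hnC : n ∈ cenIn N P := by
        refine ⟨hn, Subgroup.mem_centralizer_iff.mpr fun u hu => ?_⟩
        have h1 : n = (g₁ : G) * y⁻¹ := by rw [hg₁]; group
        have h2 := hfix' u hu
        have h3 := hab u hu y hy
        have h4 : u * (g₁ : G) = g₁ * u := by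
          calc u * (g₁ : G) = u * (g₁ : G) * u⁻¹ * u := by group
            _ = g₁ * u := by rw [h2]
        rw [h1]
        have h5 : u * y⁻¹ = y⁻¹ * u := by
          have : u * y⁻¹ * y = y⁻¹ * u * y := by
            rw [mul_assoc y⁻¹, h3]
            group
          exact mul_right_cancel this
        calc u * ((g₁ : G) * y⁻¹) = (u * (g₁ : G)) * y⁻¹ := by group
          _ = g₁ * (u * y⁻¹) := by rw [h4]; group
          _ = g₁ * (y⁻¹ * u) := by rw [h5]
          _ = _ := by group
      let K : ConjClasses (cenIn N P) := ConjClasses.mk ⟨n, hnC⟩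
      refine ⟨(K, ⟨y, hy⟩), Subtype.ext ?_⟩
      show ConjClasses.mk (((clRep K : cenIn N P) : G) * y) = κ
      have h1 : IsConj (clRep K) (⟨n, hnC⟩ : cenIn N P) :=
        ConjClasses.mk_eq_mk_iff_isConj.mp (mk_clRep K)
      obtain ⟨d, hd⟩ := isConj_iff.mp h1
      have h2 : (d : G) * (clRep K : cenIn N P) * (d : G)⁻¹ = n := congrArg Subtype.val hd
      have h3 : (d : G) * y = y * d := (hcommC d y hy).symm
      have h4 : IsConj (((clRep K : cenIn N P) : G) * y) (g₁ : G) := by
        refine isConj_iff.mpr ⟨(d : G), ?_⟩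
        rw [hg₁, ← h2]
        have h5 : (d : G) * y * (d : G)⁻¹ = y := by rw [h3]; group
        calc (d : G) * (((clRep K : cenIn N P) : G) * y) * (d : G)⁻¹ =
            ((d : G) * ((clRep K : cenIn N P) : G) * (d : G)⁻¹) * ((d : G) * y * (d : G)⁻¹) := by group
          _ = _ := by rw [h5]
      rw [ConjClasses.mk_eq_mk_iff_isConj.mpr h4]
      exact ConjClasses.mem_carrier_iff_mk_eq.mp g₁.2
  rw [← Nat.card_congr (Equiv.ofBijective F hF), Nat.card_prod]

end Classes

section Main

universe u

theorem card_add_compl {α : Type*} [Finite α] (q : α → Prop) :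
    Nat.card {a // q a} + Nat.card {a // ¬ q a} = Nat.card α := by
  classical
  rw [Nat.card_congr (Equiv.sumCompl q).symm, Nat.card_sum]

variable {G : Type u} [Group G] [Finite G] {p : ℕ} [hp : Fact p.Prime]

theorem commutator_le_of_linear [Fintype G] (N : Subgroup G) [hN : N.Normal]
    (hlinβ : ∀ β : IrrCharacter G, KerContains N (β : G → ℂ) → (β : G → ℂ) 1 = 1) : commutator G ≤ N := by
  classical
  intro c hc
  by_contra hcN
  have h1 := sum_kerContains_degree_mul N hcN
  have h2 : ∀ β ∈ Finset.univ.filter (fun χ : IrrCharacter G => KerContains N (χ : G → ℂ)),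
      (β : G → ℂ) 1 * (β : G → ℂ) c = 1 := by
    intro β hβ
    have hβ' := (Finset.mem_filter.mp hβ).2
    have h3 := hlinβ β hβ'
    rw [h3, irr_linear_commutator β h3 hc, one_mul]
  rw [Finset.sum_congr rfl h2, Finset.sum_const, nsmul_eq_mul, mul_one] at h1
  have h4 : (Finset.univ.filter (fun χ : IrrCharacter G => KerContains N (χ : G → ℂ))).card = 0 := by
    exact_mod_cast h1
  rw [Finset.card_eq_zero] at h4
  have h5 : principal G ∈ Finset.univ.filter (fun χ : IrrCharacter G => KerContains N (χ : G → ℂ)) := by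
    simp only [Finset.mem_filter, Finset.mem_univ, true_and]
    intro n _
    simp
  rw [h4] at h5
  simp at h5

/-- The class count theorem. -/
theorem card_classes_dvd_eq_one (hnil : ¬ Group.IsNilpotent G) (N : Subgroup G) [hN : N.Normal]
    (hNc : (Nat.card N).Coprime p) (hidx : ∃ k : ℕ, N.index = p ^ k)
    (hone : Nat.card {χ : IrrCharacter G // p ∣ charDegree (χ : G → ℂ)} = 1) :
    Nat.card {C : ConjClasses G // p ∣ Nat.card C.carrier} = 1 := by
  classical
  haveI := Fintype.ofFinite G
  letI instH : ∀ H : Subgroup G, Fintype H := fun H => Fintype.ofFinite H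
  have hpp : p.Prime := hp.out
  obtain ⟨k, hk⟩ := hidx
  have hNp : ¬ p ∣ Nat.card N := fun h => hpp.one_lt.ne' (Nat.Coprime.eq_one_of_dvd hNc.symm h)
  obtain ⟨hsub, ⟨⟨χ₀, h0⟩⟩⟩ := Nat.card_eq_one_iff_unique.mp hone
  have huniq : ∀ χ : IrrCharacter G, p ∣ charDegree (χ : G → ℂ) → χ = χ₀ := by
    intro χ hχ
    exact congrArg Subtype.val (hsub.elim ⟨χ, hχ⟩ ⟨χ₀, h0⟩)
  let Q : Sylow p G := default
  let P : Subgroup G := Q
  have hPp : IsPGroup p P := Q.2
  have hPS : ¬ p ∣ P.index := Q.not_dvd_index
  have hNP : N ⊔ P = ⊤ := by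
    have h1 : (N ⊔ P).index ∣ N.index := Subgroup.index_dvd_of_le le_sup_left
    have h2 : (N ⊔ P).index ∣ P.index := Subgroup.index_dvd_of_le le_sup_right
    rw [hk] at h1
    obtain ⟨j, -, hj⟩ := (Nat.dvd_prime_pow hpp).mp h1
    have hj0 : j = 0 := by
      by_contra hne
      exact hPS ((dvd_pow_self p hne).trans (hj ▸ h2))
    exact Subgroup.index_eq_one.mp (by rw [hj, hj0, pow_zero])
  have hdisj := disjoint_of_not_dvd N hPp hNp
  have hcomp : Subgroup.IsComplement' N P := by
    refine Subgroup.isComplement'_of_disjoint_and_mul_eq_univ (disjoint_iff.mpr hdisj) ?_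
    rw [← Subgroup.normal_mul, hNP]
    rfl
  have hcardP : Nat.card P = N.index := hcomp.symm.index_eq_card.symm
  have hnorm : ∀ s ∈ P, ∀ g ∈ N, s * g * s⁻¹ ∈ N := fun s _ g hg => hN.conj_mem g hg s
  have hcop₁ : (Nat.card N).Coprime (Nat.card P) := by
    obtain ⟨n, hn⟩ := IsPGroup.iff_card.mp hPp
    rw [hn]
    exact Nat.Coprime.pow_right n hNc
  have hsol : Group.IsSolvable P ∨ Group.IsSolvable N := by
    left
    haveI := hPp.isNilpotent
    infer_instance
  let C : Subgroup G := cenIn N P
  let φ := conjAct N P hnorm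
  let j : C →* N := Subgroup.inclusion (inf_le_left : C ≤ N)
  have hj : Function.Injective j := Subgroup.inclusion_injective _
  have hr : ∀ y, y ∈ j.range ↔ ∀ a, φ a y = y := by
    intro y
    constructor
    · rintro ⟨c, rfl⟩ a
      apply Subtype.ext
      show (a : G) * (c : G) * (a : G)⁻¹ = c
      have h1 : (a : G) * (c : G) = c * a := (Subgroup.mem_centralizer_iff.mp c.2.2 a a.2)
      rw [h1]
      group
    · intro h
      have hy : (y : G) ∈ C := by
        refine ⟨y.2, Subgroup.mem_centralizer_iff.mpr fun s hs => ?_⟩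
        have h1 := congrArg Subtype.val (h ⟨s, hs⟩)
        have h2 : s * (y : G) * s⁻¹ = y := h1
        calc s * (y : G) = s * (y : G) * s⁻¹ * s := by group
          _ = y * s := by rw [h2]
      exact ⟨⟨y, hy⟩, Subtype.ext rfl⟩
  obtain ⟨f, -⟩ := pgroup_corr_coprime hpp φ hPp hcop₁ hj hr
  have htC : Nat.card (IrrInv φ) = Nat.card (ConjClasses C) := by
    rw [Nat.card_congr f, card_irr_eq_card_conjClasses]
  have hclC : Nat.card {K : ConjClasses N // IsFixCl φ K} = Nat.card (ConjClasses C) :=
    card_fixCl hcop₁.symm hsol hj hr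
  -- invariance under `G` against invariance under `P`
  have hinvIff : ∀ θ : IrrCharacter N, (∀ g, conjFn hN g (θ : N → ℂ) = θ) ↔ IsInv φ (θ : N → ℂ) := by
    intro θ
    constructor
    · intro h a y
      exact congrFun (h (a : G)) y
    · intro h g
      obtain ⟨n, hn, x, hx, rfl⟩ := exists_mul_of_sup N hNP g
      funext m
      have h1 : conjFn hN (n * x) (θ : N → ℂ) m = (θ : N → ℂ) (⟨n, hn⟩ * (φ ⟨x, hx⟩ m) * (⟨n, hn⟩ : N)⁻¹) := by
        refine congrArg (θ : N → ℂ) (Subtype.ext ?_)
        show n * x * (m : G) * (n * x)⁻¹ = n * (x * m * x⁻¹) * n⁻¹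
        group
      rw [h1]
      have h2 := IsCharacter.isClassFunction (IsIrrCharacter.isCharacter θ.2) (φ ⟨x, hx⟩ m) (⟨n, hn⟩ : N)
      rw [h2]
      exact h ⟨x, hx⟩ m
  by_cases hall : ∀ θ : IrrCharacter N, IsInv φ (θ : N → ℂ)
  · exfalso
    have hcardN : Nat.card {K : ConjClasses N // IsFixCl φ K} = Nat.card (ConjClasses N) := by
      rw [hclC, ← htC, ← card_irr_eq_card_conjClasses]
      exact Nat.card_congr (Equiv.subtypeUnivEquiv hall)
    have hfixall : ∀ K : ConjClasses N, IsFixCl φ K := by
      have hinj : Function.Injective (Subtype.val : {K : ConjClasses N // IsFixCl φ K} → ConjClasses N) :=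
        Subtype.val_injective
      have hb := hinj.bijective_of_nat_card_le hcardN.ge
      intro K
      obtain ⟨K', hK'⟩ := hb.2 K
      exact hK' ▸ K'.2
    have hcent := centralizes_of_fix_classes P N hPp hNp (fun x hx m =>
      ConjClasses.mk_eq_mk_iff_isConj.mp (hfixall (ConjClasses.mk m) ⟨x, hx⟩ m rfl))
    have hbot := eq_bot_of_centralizes N hk hNp P hPp hNP hcent χ₀ h0 huniq
    have hPtop : P = ⊤ := by
      have : N ⊔ P = P := by rw [hbot, bot_sup_eq]
      rw [← this, hNP]
    have hPG : IsPGroup p G := by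
      have h1 : IsPGroup p (⊤ : Subgroup G) := hPtop ▸ hPp
      intro g
      obtain ⟨k, hk⟩ := h1 ⟨g, trivial⟩
      exact ⟨k, by simpa using congrArg Subtype.val hk⟩
    exact hnil hPG.isNilpotent
  · push Not at hall
    obtain ⟨θ₁, hθ₁⟩ := hall
    have hθ₁' : ¬ ∀ g, conjFn hN g (θ₁ : N → ℂ) = θ₁ := fun h => hθ₁ ((hinvIff θ₁).mp h)
    obtain ⟨τ', hτ', hτne⟩ := exists_irr_over N θ₁.2
    let τ : IrrCharacter G := ⟨τ', hτ'⟩
    have hτp : p ∣ charDegree (τ : G → ℂ) := by
      by_contra h
      exact hθ₁' (inv_of_not_dvd N hk τ θ₁ hτne h)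
    have hτ0 : τ = χ₀ := huniq τ hτp
    have hχ₀θ₁ : classInner (fun n : N => (χ₀ : G → ℂ) n) (θ₁ : N → ℂ) ≠ 0 := by
      rw [← hτ0]
      exact hτne
    have hnot0 : ∀ θ : IrrCharacter N, IsInv φ (θ : N → ℂ) →
        classInner (fun n : N => (χ₀ : G → ℂ) n) (θ : N → ℂ) = 0 := by
      intro θ hθ
      by_contra hne
      have h1 := clifford_invariant hN χ₀.2 θ.2 ((hinvIff θ).mpr hθ) hne
      apply hχ₀θ₁
      rw [h1, classInner_smul_left, classInner_irr_of_ne θ.2 θ₁.2 (fun h => hθ₁ (by
        have h2 : θ = θ₁ := Subtype.ext h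
        rwa [← h2])), mul_zero]
    have hover : ∀ θ : IrrCharacter N, IsInv φ (θ : N → ℂ) → ∀ χ : IrrCharacter G,
        classInner (fun n : N => (χ : G → ℂ) n) (θ : N → ℂ) ≠ 0 → ¬ p ∣ charDegree (χ : G → ℂ) := by
      intro θ hθ χ hχ hd
      have h1 := huniq χ hd
      rw [h1] at hχ
      exact hχ (hnot0 θ hθ)
    have hcardA : ∀ θ : IrrCharacter N, IsInv φ (θ : N → ℂ) →
        (Finset.univ.filter (fun χ : IrrCharacter G =>
          classInner (fun n : N => (χ : G → ℂ) n) (θ : N → ℂ) ≠ 0)).card = N.index :=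
      fun θ hθ => card_over_of_not_dvd N hk θ (hover θ hθ)
    let T := Finset.univ.filter (fun θ : IrrCharacter N => IsInv φ (θ : N → ℂ))
    have hTcard : T.card = Nat.card (IrrInv φ) := by
      rw [Nat.card_eq_fintype_card, Fintype.card_subtype]
    have hconst : ∀ χ : IrrCharacter G, ¬ p ∣ charDegree (χ : G → ℂ) →
        ∃ θ : IrrCharacter N, classInner (fun n : N => (χ : G → ℂ) n) (θ : N → ℂ) ≠ 0 := by
      intro χ _
      have hres0 := IsCharacter.restrict N (IsIrrCharacter.isCharacter χ.2)
      have hne0 : (fun n : N => (χ : G → ℂ) n) ≠ 0 := by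
        intro h
        have := congrFun h 1
        simp only [Pi.zero_apply] at this
        exact irr_degree_ne_zero χ (by simpa using this)
      obtain ⟨θ', hθ', hθne⟩ := exists_constituent hres0 hne0
      exact ⟨⟨θ', hθ'⟩, hθne⟩
    have hdc : (Finset.univ.filter (fun χ : IrrCharacter G => ¬ p ∣ charDegree (χ : G → ℂ))).card =
        T.card * N.index := by
      have h1 : ∀ χ : IrrCharacter G, (if ¬ p ∣ charDegree (χ : G → ℂ) then 1 else 0) =
          ∑ θ ∈ T, if classInner (fun n : N => (χ : G → ℂ) n) (θ : N → ℂ) ≠ 0 then 1 else 0 := by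
        intro χ
        by_cases hχ : ¬ p ∣ charDegree (χ : G → ℂ)
        · rw [if_pos hχ]
          obtain ⟨θ', hθ'⟩ := hconst χ hχ
          have hinv := inv_of_not_dvd N hk χ θ' hθ' hχ
          have hres := restrict_of_not_dvd N hk χ θ' hθ' hχ
          have hmem : θ' ∈ T := by
            simp only [T, Finset.mem_filter, Finset.mem_univ, true_and]
            exact (hinvIff θ').mp hinv
          rw [Finset.sum_eq_single θ']
          · rw [if_pos hθ']
          · intro θ _ hne
            rw [if_neg]
            push Not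
            rw [hres]
            exact classInner_irr_of_ne θ'.2 θ.2 (fun h => hne (Subtype.ext h.symm))
          · intro h
            exact absurd hmem h
        · rw [if_neg hχ]
          push Not at hχ
          have h2 := huniq χ hχ
          symm
          refine Finset.sum_eq_zero fun θ hθ => ?_
          rw [if_neg]
          push Not
          rw [h2]
          exact hnot0 θ (Finset.mem_filter.mp hθ).2
      rw [Finset.card_filter, Finset.sum_congr rfl (fun χ _ => h1 χ), Finset.sum_comm,
        Finset.sum_const_nat (m := N.index)]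
      intro θ hθ
      rw [← Finset.card_filter]
      exact hcardA θ (Finset.mem_filter.mp hθ).2
    -- the quotient is abelian
    have hprin : IsInv φ ((principal N : IrrCharacter N) : N → ℂ) := by
      intro a y
      simp
    have hlinβ : ∀ β : IrrCharacter G, KerContains N (β : G → ℂ) → (β : G → ℂ) 1 = 1 := by
      intro β hβ
      have hβres : (fun n : N => (β : G → ℂ) n) = ((β : G → ℂ) 1) • ((principal N : IrrCharacter N) : N → ℂ) := by
        funext n
        simp [hβ n n.2]
      have hne : classInner (fun n : N => (β : G → ℂ) n) ((principal N : IrrCharacter N) : N → ℂ) ≠ 0 := by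
        rw [hβres, classInner_smul_left, classInner_irr_self (principal N).2, mul_one]
        exact irr_degree_ne_zero β
      have h1 := hover _ hprin β hne
      have h2 := restrict_of_not_dvd N hk β _ hne h1
      have h3 := congrFun h2 1
      simpa using h3
    have hcomm := commutator_le_of_linear N hlinβ
    have hab : ∀ a ∈ P, ∀ b ∈ P, a * b = b * a := by
      intro a ha b hb
      have h1 : a * b * a⁻¹ * b⁻¹ ∈ N := by
        have := hcomm (Subgroup.commutator_mem_commutator (Subgroup.mem_top a) (Subgroup.mem_top b))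
        rwa [commutatorElement_def] at this
      have h2 : a * b * a⁻¹ * b⁻¹ ∈ P :=
        P.mul_mem (P.mul_mem (P.mul_mem ha hb) (P.inv_mem ha)) (P.inv_mem hb)
      have h3 : a * b * a⁻¹ * b⁻¹ ∈ N ⊓ P := Subgroup.mem_inf.mpr ⟨h1, h2⟩
      rw [hdisj, Subgroup.mem_bot] at h3
      calc a * b = (a * b * a⁻¹ * b⁻¹) * (b * a) := by group
        _ = b * a := by rw [h3, one_mul]
    have hB := card_classes_not_dvd N P hPp hPS hNp hNP hab hnorm
    have hA := card_add_compl (fun c : ConjClasses G => p ∣ Nat.card c.carrier)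
    have hS := card_add_compl (fun χ : IrrCharacter G => p ∣ charDegree (χ : G → ℂ))
    rw [hone, card_irr_eq_card_conjClasses] at hS
    have hS2 : Nat.card {χ : IrrCharacter G // ¬ p ∣ charDegree (χ : G → ℂ)} = T.card * N.index := by
      rw [← hdc, Nat.card_eq_fintype_card, Fintype.card_subtype]
    rw [hS2, hTcard, htC] at hS
    rw [hB, hcardP] at hA
    show Nat.card {c : ConjClasses G // p ∣ Nat.card c.carrier} = 1
    have : Nat.card (ConjClasses (cenIn N P)) = Nat.card (ConjClasses C) := rfl
    rw [this] at hA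
    omega

end Main

end Cfsg.Agent.Lib.Degree
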